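import Groth.Prelude.Def_FSch4
import Groth.Prelude.Def_MoreMor
import Groth.Agent.S1304
import Groth.Agent.S1305
import Groth.Agent.S1313
import Groth.Agent.S2305
import Groth.Agent.S2306
import Groth.Agent.S3857

/-!
# Properties of adic morphisms of systems of thickenings that are read off at level zero
-/

set_option autoImplicit false
universe u

open CategoryTheory CategoryTheory.Limits AlgebraicGeometry

namespace K28.AdicSq

variable {𝔛 𝔜 : FSch.Sys.{u}} (f : 𝔛 ⟶ 𝔜)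

/-- `toX n` of a formal system is a thickening. -/
lemma isThickening_toX (h : 𝔜.IsFormal) (n : ℕ) : MoreMor.IsThickening (𝔜.toX n) :=
  ⟨Groth.Agent.S3857.isClosedImmersion_toX 𝔜 h n, Groth.Agent.S3857.surjective_toX 𝔜 h n⟩

include f in
/-- level `n` is locally of finite type when level `0` is. -/
lemma locallyOfFiniteType_app (h𝔜 : 𝔜.IsLocNoethFormal) (hf : FSch.IsAdicHom f)
    [LocallyOfFiniteType ((f : FSch.Hom 𝔛 𝔜).app 0)] (n : ℕ) :
    LocallyOfFiniteType ((f : FSch.Hom 𝔛 𝔜).app n) := by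
  have h1 := Groth.Agent.S3857.isPullback_toX f hf n
  have h2 := isThickening_toX h𝔜.1 n
  have := h2.1
  have := h2.2
  have := h𝔜.2.2 n
  have h3 : LocallyOfFiniteType (pullback.snd ((f : FSch.Hom 𝔛 𝔜).app n) (𝔜.toX n)) := by
    rw [← h1.isoPullback_inv_snd]
    infer_instance
  exact Groth.Agent.S2305.result ((f : FSch.Hom 𝔛 𝔜).app n) (𝔜.toX n)

lemma isIntegralHom_app (h𝔜 : 𝔜.IsFormal) (hf : FSch.IsAdicHom f)
    [IsIntegralHom ((f : FSch.Hom 𝔛 𝔜).app 0)] (n : ℕ) :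
    IsIntegralHom ((f : FSch.Hom 𝔛 𝔜).app n) := by
  have h𝔛 : 𝔛.IsFormal := Groth.Agent.S3857.isFormal_of_isAdicHom f h𝔜 hf
  exact (Groth.Agent.S1305.result _ _ _ _ (isThickening_toX h𝔛 n) (isThickening_toX h𝔜 n)
    (Groth.Agent.S3857.isPullback_toX f hf n).w).mp inferInstance

lemma isFinite_app (h𝔜 : 𝔜.IsLocNoethFormal) (hf : FSch.IsAdicHom f)
    [IsFinite ((f : FSch.Hom 𝔛 𝔜).app 0)] (n : ℕ) :
    IsFinite ((f : FSch.Hom 𝔛 𝔜).app n) := by
  rw [IsFinite.iff_isIntegralHom_and_locallyOfFiniteType]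
  exact ⟨isIntegralHom_app f h𝔜.1 hf n, locallyOfFiniteType_app f h𝔜 hf n⟩

lemma isClosedImmersion_app (h𝔜 : 𝔜.IsLocNoethFormal) (hf : FSch.IsAdicHom f)
    [IsClosedImmersion ((f : FSch.Hom 𝔛 𝔜).app 0)] (n : ℕ) :
    IsClosedImmersion ((f : FSch.Hom 𝔛 𝔜).app n) := by
  have := locallyOfFiniteType_app f h𝔜 hf n
  exact (Groth.Agent.S1313.result _ _ _ _ (isThickening_toX h𝔜.1 n)
    (Groth.Agent.S3857.isPullback_toX f hf n)).mp inferInstance

lemma isSeparated_app (h𝔜 : 𝔜.IsFormal) (hf : FSch.IsAdicHom f)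
    [IsSeparated ((f : FSch.Hom 𝔛 𝔜).app 0)] (n : ℕ) :
    IsSeparated ((f : FSch.Hom 𝔛 𝔜).app n) := by
  have h𝔛 : 𝔛.IsFormal := Groth.Agent.S3857.isFormal_of_isAdicHom f h𝔜 hf
  have h1 := isThickening_toX h𝔛 n
  have h2 := isThickening_toX h𝔜 n
  have := h1.1
  have := h1.2
  have := h2.1
  exact (Groth.Agent.S2306.result _ _ (𝔛.toX n) (𝔜.toX n)
    (Groth.Agent.S3857.isPullback_toX f hf n).w.symm).mpr inferInstance

lemma universallyClosed_app (h𝔜 : 𝔜.IsFormal) (hf : FSch.IsAdicHom f)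
    [UniversallyClosed ((f : FSch.Hom 𝔛 𝔜).app 0)] (n : ℕ) :
    UniversallyClosed ((f : FSch.Hom 𝔛 𝔜).app n) := by
  have h𝔛 : 𝔛.IsFormal := Groth.Agent.S3857.isFormal_of_isAdicHom f h𝔜 hf
  exact (Groth.Agent.S1304.result _ _ _ _ (isThickening_toX h𝔛 n) (isThickening_toX h𝔜 n)
    (Groth.Agent.S3857.isPullback_toX f hf n).w).mp inferInstance

lemma isProper_app (h𝔜 : 𝔜.IsLocNoethFormal) (hf : FSch.IsAdicHom f)
    [IsProper ((f : FSch.Hom 𝔛 𝔜).app 0)] (n : ℕ) :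
    IsProper ((f : FSch.Hom 𝔛 𝔜).app n) := by
  have := locallyOfFiniteType_app f h𝔜 hf n
  have := isSeparated_app f h𝔜.1 hf n
  have := universallyClosed_app f h𝔜.1 hf n
  exact ⟨⟩

end K28.AdicSq
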