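import Mathlib.RingTheory.IsTensorProduct
import Mathlib.RingTheory.Nakayama
import Mathlib.RingTheory.TensorProduct.Finite
import Mathlib.RingTheory.AdicCompletion.Basic
import Mathlib.RingTheory.Filtration
import Mathlib.LinearAlgebra.TensorProduct.RightExactness
import Mathlib.RingTheory.AdicCompletion.Noetherian

/-!
# Base change and adic completeness

* `isBaseChange_of_surjective`: a surjection with kernel `ker (A → B) • M` is a base change along the surjection
  `A → B`;
* `bijective_of_levels`: a linear map between finite modules over a Noetherian `J`-adically complete ring which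
  is a bijection modulo `J ^ (n + 1)` for all `n` is bijective;
* `isBaseChange_of_levels`: if `M → Q → Q_n` is a base change along `A → B → B_n` for all `n`, where
  `B_n = B / J ^ (n + 1)`, `Q_n = Q / J ^ (n + 1) Q`, `B` is Noetherian and `J`-adically complete and `M`, `Q` are
  finite, then `M → Q` is a base change along `A → B`.
-/

set_option autoImplicit false

universe u

open scoped TensorProduct

namespace K28.BCAlg

variable {A B : Type u} [CommRing A] [CommRing B] [Algebra A B]

/-- The kernel of the base change map along a surjection. -/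
theorem mem_smul_top_of_isBaseChange (h : Function.Surjective (algebraMap A B)) {M : Type u} [AddCommGroup M]
    [Module A M] {N : Type u} [AddCommGroup N] [Module A N] [Module B N] [IsScalarTower A B N] (f : M →ₗ[A] N)
    (hf : IsBaseChange B f) (m : M) (hm : f m = 0) : m ∈ (RingHom.ker (algebraMap A B)) • (⊤ : Submodule A M) := by
  have h1 : (1 : B) ⊗ₜ[A] m = 0 := by
    apply hf.equiv.injective
    rw [map_zero, hf.equiv_tmul, hm, smul_zero]
  have hex : Function.Exact ((RingHom.ker (algebraMap A B)).subtype) (Algebra.linearMap A B) := by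
    intro a
    constructor
    · intro ha
      exact ⟨⟨a, ha⟩, rfl⟩
    · rintro ⟨a, rfl⟩
      exact a.2
  have h2 := rTensor_exact M hex h
  obtain ⟨t, ht⟩ := (h2 ((1 : A) ⊗ₜ[A] m)).mp (by
    rw [LinearMap.rTensor_tmul, Algebra.linearMap_apply, map_one]
    exact h1)
  have h3 : m = TensorProduct.lid A M ((LinearMap.rTensor M (RingHom.ker (algebraMap A B)).subtype) t) := by
    rw [ht]
    simp
  rw [h3]
  clear h3 ht
  induction t using TensorProduct.induction_on with
  | zero => simp
  | add x y hx hy => rw [map_add, map_add]; exact Submodule.add_mem _ hx hy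
  | tmul a m' =>
    simp only [LinearMap.rTensor_tmul, TensorProduct.lid_tmul, Submodule.subtype_apply]
    exact Submodule.smul_mem_smul a.2 trivial

/-- Surjections as base change. -/
theorem isBaseChange_of_surjective {M N : Type u} [AddCommGroup M] [Module A M] [AddCommGroup N] [Module A N]
    [Module B N] [IsScalarTower A B N] (hs : Function.Surjective (algebraMap A B)) (f : M →ₗ[A] N)
    (hf : Function.Surjective f)
    (hker : ∀ m, f m = 0 → m ∈ RingHom.ker (algebraMap A B) • (⊤ : Submodule A M)) : IsBaseChange B f := by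
  apply IsBaseChange.of_lift_unique
  intro Q _ _ _ _ g
  let : AddCommGroup Q := Module.addCommMonoidToAddCommGroup B
  have h0 : ∀ m, f m = 0 → g m = 0 := by
    intro m hm
    have h1 := hker m hm
    induction h1 using Submodule.smul_induction_on' with
    | smul a ha m _ =>
      rw [g.map_smul, ← algebraMap_smul B a (g m), (RingHom.mem_ker).1 ha, zero_smul]
    | add x hx y hy hx' hy' =>
      clear hm
      have key : ∀ z ∈ RingHom.ker (algebraMap A B) • (⊤ : Submodule A M), g z = 0 := by
        intro z hz
        induction hz using Submodule.smul_induction_on' with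
        | smul a ha m _ => rw [g.map_smul, ← algebraMap_smul B a (g m), (RingHom.mem_ker).1 ha, zero_smul]
        | add x hx y hy hx' hy' => rw [map_add, hx', hy', add_zero]
      rw [map_add, key x hx, key y hy, add_zero]
  let k : N →ₗ[A] Q := ((LinearMap.ker f).liftQ g (fun m hm => h0 m hm)).comp
    (f.quotKerEquivOfSurjective hf).symm.toLinearMap
  have hk : ∀ m, k (f m) = g m := by
    intro m
    have e : (f.quotKerEquivOfSurjective hf).symm (f m) = Submodule.Quotient.mk m := by
      rw [LinearEquiv.symm_apply_eq]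
      rfl
    change (LinearMap.ker f).liftQ g (fun m hm => h0 m hm) ((f.quotKerEquivOfSurjective hf).symm (f m)) = g m
    rw [e]
    rfl
  refine ⟨k.extendScalarsOfSurjective hs, ?_, ?_⟩
  · ext m
    exact hk m
  · intro k' hk'
    ext n
    obtain ⟨m, rfl⟩ := hf n
    exact (LinearMap.congr_fun hk' m).trans (hk m).symm

/-- Finite modules over a Noetherian adically complete ring are Hausdorff. -/
theorem eq_zero_of_forall_mem {M : Type u} [AddCommGroup M] [Module A M] [IsNoetherianRing A] (I : Ideal A)
    [IsAdicComplete I A] [Module.Finite A M] (x : M) (hx : ∀ n : ℕ, x ∈ I ^ (n + 1) • (⊤ : Submodule A M)) :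
    x = 0 := by
  have h1 : (⨅ i : ℕ, I ^ i • ⊤ : Submodule A M) = ⊥ :=
    Ideal.iInf_pow_smul_eq_bot_of_le_jacobson I (IsAdicComplete.le_jacobson_bot I)
  have h2 : x ∈ (⨅ i : ℕ, I ^ i • ⊤ : Submodule A M) := by
    rw [Submodule.mem_iInf]
    intro i
    exact Submodule.smul_mono_left (Ideal.pow_le_pow_right (Nat.le_succ i)) (hx i)
  rw [h1] at h2
  exact h2

/-- Surjectivity modulo the ideal of definition. -/
theorem surjective_of_mod {P Q : Type u} [AddCommGroup P] [Module A P] [AddCommGroup Q] [Module A Q] (I : Ideal A)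
    [IsAdicComplete I A] [Module.Finite A Q] (f : P →ₗ[A] Q)
    (h : ∀ q : Q, ∃ p, q - f p ∈ I • (⊤ : Submodule A Q)) : Function.Surjective f := by
  have h1 : (⊤ : Submodule A Q) ≤ LinearMap.range f := by
    refine Submodule.le_of_le_smul_of_le_jacobson_bot (I := I) (Module.Finite.fg_top)
      (IsAdicComplete.le_jacobson_bot I) ?_
    intro q _
    obtain ⟨p, hp⟩ := h q
    have : q = f p + (q - f p) := by abel
    rw [this]
    exact Submodule.add_mem_sup ⟨p, rfl⟩ hp
  intro q
  exact h1 trivial

/-- Bijectivity from bijectivity on all levels. -/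
theorem bijective_of_levels {P Q : Type u} [AddCommGroup P] [Module A P] [AddCommGroup Q] [Module A Q]
    [IsNoetherianRing A] (I : Ideal A) [IsAdicComplete I A] [Module.Finite A P] [Module.Finite A Q]
    (f : P →ₗ[A] Q) (h : ∀ q : Q, ∃ p, q - f p ∈ I • (⊤ : Submodule A Q))
    (h' : ∀ (n : ℕ) (p : P), f p = 0 → p ∈ I ^ (n + 1) • (⊤ : Submodule A P)) : Function.Bijective f := by
  refine ⟨?_, surjective_of_mod I f h⟩
  rw [injective_iff_map_eq_zero]
  intro p hp
  exact eq_zero_of_forall_mem I p fun n => h' n p hp

/-- Base change from base change on all levels. -/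
theorem isBaseChange_of_levels {M Q : Type u} [AddCommGroup M] [Module A M] [AddCommGroup Q] [Module A Q]
    [Module B Q] [IsScalarTower A B Q] (g : M →ₗ[A] Q) (J : Ideal B) [IsNoetherianRing B] [IsAdicComplete J B]
    [Module.Finite A M] [Module.Finite B Q]
    (Bn : ℕ → Type u) [∀ n, CommRing (Bn n)] [∀ n, Algebra A (Bn n)] [∀ n, Algebra B (Bn n)]
    [∀ n, IsScalarTower A B (Bn n)] (hs : ∀ n, Function.Surjective (algebraMap B (Bn n)))
    (hk : ∀ n, RingHom.ker (algebraMap B (Bn n)) ≤ J ^ (n + 1))
    (Qn : ℕ → Type u) [∀ n, AddCommGroup (Qn n)] [∀ n, Module A (Qn n)] [∀ n, Module B (Qn n)]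
    [∀ n, Module (Bn n) (Qn n)] [∀ n, IsScalarTower A B (Qn n)] [∀ n, IsScalarTower B (Bn n) (Qn n)]
    [∀ n, IsScalarTower A (Bn n) (Qn n)]
    (q : ∀ n, Q →ₗ[B] Qn n) (hq0 : ∀ x, q 0 x = 0 → x ∈ J • (⊤ : Submodule B Q))
    (hbc : ∀ n, IsBaseChange (Bn n) (((q n).restrictScalars A) ∘ₗ g)) : IsBaseChange B g := by
  have hP : IsBaseChange B (TensorProduct.mk A B M 1) := TensorProduct.isBaseChange A M B
  let f : B ⊗[A] M →ₗ[B] Q := hP.lift g
  have hf : ∀ m, f ((1 : B) ⊗ₜ[A] m) = g m := fun m => hP.lift_eq g m
  have hbc' : ∀ n, IsBaseChange (Bn n) ((q n) ∘ₗ f) := by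
    intro n
    refine IsBaseChange.of_comp hP ?_
    have e : (((q n) ∘ₗ f).restrictScalars A) ∘ₗ (TensorProduct.mk A B M 1) = ((q n).restrictScalars A) ∘ₗ g := by
      ext m
      exact congrArg (q n) (hf m)
    have := hbc n
    rw [← e] at this
    exact this
  have hsurj : ∀ n, Function.Surjective ((q n) ∘ₗ f) := by
    intro n y
    induction y using (hbc' n).inductionOn with
    | zero => exact ⟨0, map_zero _⟩
    | tmul m => exact ⟨m, rfl⟩
    | smul s y hy =>
      obtain ⟨x, hx⟩ := hy
      obtain ⟨b, rfl⟩ := hs n s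
      exact ⟨b • x, by rw [map_smul, hx, algebraMap_smul]⟩
    | add y y' hy hy' =>
      obtain ⟨x, hx⟩ := hy
      obtain ⟨x', hx'⟩ := hy'
      exact ⟨x + x', by rw [map_add, hx, hx']⟩
  have hbij : Function.Bijective f := by
    refine bijective_of_levels J f ?_ ?_
    · intro y
      obtain ⟨p, hp⟩ := hsurj 0 (q 0 y)
      refine ⟨p, hq0 _ ?_⟩
      rw [map_sub, sub_eq_zero]
      exact hp.symm
    · intro n p hp
      have h1 := mem_smul_top_of_isBaseChange (hs n) ((q n) ∘ₗ f) (hbc' n) p (by
        rw [LinearMap.comp_apply, hp, map_zero])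
      exact Submodule.smul_mono_left (hk n) h1
  exact IsBaseChange.of_equiv (LinearEquiv.ofBijective f hbij) hf

end K28.BCAlg
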