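import Groth.Agent.FCompl.K28.SBC
import Groth.Agent.FCompl.K29.RExact

/-!
# Testing on a basis of opens

`T`, `T1` spaces with sheaves of rings `R`, `R1`, `f : T1 ⟶ T`, `φ : R ⟶ f_* R1`, `adj : L ⊣ push φ`.
* `gs g V : Sec N V →+ Sec P (pre f V)` for `g : N ⟶ (push φ).obj P`;
* `Cofinal f 𝓑`: the members of `𝓑` and their preimages are cofinal around the points;
* `isIso_lft`: if `gs g V` is a base change along `O R V → O R1 (pre f V)` for all `V ∈ 𝓑`, then the adjoint map
  `lft adj g : L.obj N ⟶ P` is an isomorphism.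
* `Basis 𝓑`, `isIso_of_basis`, `shortExact_of_basis`, ... : morphisms tested on a basis.
-/

set_option autoImplicit false
set_option linter.style.haveILetI false

universe u

open CategoryTheory TopologicalSpace Opposite
open K29.RSec K29.RStalk K29.RPull K29.RExact

noncomputable section

namespace K28.BasisIso

section Pull

variable {T T1 : TopCat.{u}} {f : T1 ⟶ T} {R : Sheaf (Opens.grothendieckTopology T) CommRingCat.{u}}
  {R1 : Sheaf (Opens.grothendieckTopology T1) CommRingCat.{u}}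
  [(Opens.map f).IsContinuous (Opens.grothendieckTopology T) (Opens.grothendieckTopology T1)]
  {φ : ringSheaf R ⟶ ((Opens.map f).sheafPushforwardContinuous RingCat.{u}
    (Opens.grothendieckTopology T) (Opens.grothendieckTopology T1)).obj (ringSheaf R1)}

/-- The semilinear map on sections of a morphism to a direct image. -/
def gs {N : Mod R} {P : Mod R1} (g : N ⟶ (push φ).obj P) (V : Opens T) : Sec N V →+ Sec P (pre f V) :=
  (ofPush φ).comp (app g V).toAddMonoidHom

theorem gs_apply {N : Mod R} {P : Mod R1} (g : N ⟶ (push φ).obj P) (V : Opens T) (n : Sec N V) :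
    gs g V n = ofPush φ (app g V n) := rfl

theorem gs_smul {N : Mod R} {P : Mod R1} (g : N ⟶ (push φ).obj P) (V : Opens T) (r : O R V) (n : Sec N V) :
    gs g V (r • n) = cm φ V r • gs g V n := by
  rw [gs_apply, map_smul, ofPush_smul]; rfl

theorem gs_res {N : Mod R} {P : Mod R1} (g : N ⟶ (push φ).obj P) {V W : Opens T} (h : W ≤ V) (n : Sec N V) :
    gs g W (res N h n) = res P (pre_mono f h) (gs g V n) :=
  congrArg (ofPush φ) (app_res g h n)

variable (f) in
/-- The members of `𝓑` and their preimages are cofinal around the points of `T1` and their images. -/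
def Cofinal (𝓑 : Set (Opens T)) : Prop :=
  ∀ (y : T1) (V : Opens T) (W : Opens T1), f y ∈ V → y ∈ W → ∃ V' ∈ 𝓑, f y ∈ V' ∧ V' ≤ V ∧ pre f V' ≤ W

variable {L : Mod R ⥤ Mod R1} (adj : L ⊣ push φ)

/-- Sections of `L N` generated by unit sections. -/
def Good {N : Mod R} (V : Opens T) (s : Sec (L.obj N) (pre f V)) : Prop :=
  s ∈ Submodule.span (O R1 (pre f V)) (Set.range (us adj (M := N) V))

theorem Good.res {N : Mod R} {V W : Opens T} (h : W ≤ V) {s : Sec (L.obj N) (pre f V)} (hs : Good adj V s) :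
    Good adj W (res _ (pre_mono f h) s) := by
  induction hs using Submodule.span_induction with
  | mem x hx =>
    obtain ⟨m, rfl⟩ := hx
    rw [← us_res adj h]
    exact Submodule.subset_span ⟨_, rfl⟩
  | zero => rw [map_zero]; exact Submodule.zero_mem _
  | add x y _ _ hx hy => rw [map_add]; exact Submodule.add_mem _ hx hy
  | smul a x _ hx => rw [res_smul]; exact Submodule.smul_mem _ _ hx

/-- Every germ of `L N` is locally generated by unit sections. -/
theorem exists_good {N : Mod R} {𝓑 : Set (Opens T)} (hB : Cofinal f 𝓑) (y : T1) (t : St (L.obj N) y) :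
    ∃ V ∈ 𝓑, ∃ (hy : f y ∈ V) (s : Sec (L.obj N) (pre f V)), Good adj V s ∧ gm _ y (pre f V) hy s = t := by
  have ht : t ∈ Submodule.span (StO R1 y) (Set.range (can adj N y)) := by
    rw [span_range_can]; trivial
  induction ht using Submodule.span_induction with
  | mem x hx =>
    obtain ⟨m, rfl⟩ := hx
    obtain ⟨U, hU, m, rfl⟩ := exists_gm N (f y) m
    obtain ⟨V, hV, hyV, hVU, -⟩ := hB y U ⊤ hU trivial
    refine ⟨V, hV, hyV, us adj V (K29.RSec.res N hVU m), Submodule.subset_span ⟨_, rfl⟩, ?_⟩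
    rw [us_res, gm_res, can_gm]
  | zero =>
    obtain ⟨V, hV, hyV, -, -⟩ := hB y ⊤ ⊤ trivial trivial
    exact ⟨V, hV, hyV, 0, Submodule.zero_mem _, map_zero _⟩
  | add x x' _ _ hx hx' =>
    obtain ⟨V, hV, hyV, s, hs, rfl⟩ := hx
    obtain ⟨V', hV', hyV', s', hs', rfl⟩ := hx'
    obtain ⟨U, hU, hyU, hUV, -⟩ := hB y (V ⊓ V') ⊤ ⟨hyV, hyV'⟩ trivial
    refine ⟨U, hU, hyU, K29.RSec.res _ (pre_mono f (hUV.trans inf_le_left)) s +
      K29.RSec.res _ (pre_mono f (hUV.trans inf_le_right)) s', ?_, ?_⟩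
    · exact Submodule.add_mem _ (Good.res adj (hUV.trans inf_le_left) hs) (Good.res adj (hUV.trans inf_le_right) hs')
    · rw [map_add, gm_res, gm_res]
  | smul a x _ hx =>
    obtain ⟨V, hV, hyV, s, hs, rfl⟩ := hx
    obtain ⟨W, hyW, a, rfl⟩ := exists_gmO y a
    obtain ⟨U, hU, hyU, hUV, hUW⟩ := hB y V W hyV hyW
    refine ⟨U, hU, hyU, resO hUW a • K29.RSec.res _ (pre_mono f hUV) s, ?_, ?_⟩
    · exact Submodule.smul_mem _ _ (Good.res adj hUV hs)
    · rw [gm_smul, gm_res, gmO_resO]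

/-- The adjoint map is an isomorphism if the map on sections is a base change on a basis. -/
theorem isIso_lft {N : Mod R} {P : Mod R1} (g : N ⟶ (push φ).obj P) {𝓑 : Set (Opens T)} (hB : Cofinal f 𝓑)
    (hg : ∀ V ∈ 𝓑, SBC (cm φ V) (gs g V)) : IsIso (lft adj g) := by
  rw [isIso_iff_stMap]
  intro y
  constructor
  · rw [injective_iff_map_eq_zero]
    intro t ht
    obtain ⟨V, hV, hyV, s, hs, rfl⟩ := exists_good adj hB y t
    rw [stMap_gm] at ht
    obtain ⟨W, hyW, hW, e⟩ := exists_res_eq_zero P _ ht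
    obtain ⟨U, hU, hyU, hUV, hUW⟩ := hB y V W hyV hyW
    rw [← gm_res _ y (pre_mono f hUV) hyU]
    have hs' := Good.res adj hUV hs
    have e' : app (lft adj g) (pre f U) (K29.RSec.res _ (pre_mono f hUV) s) = 0 := by
      rw [app_res]
      have : K29.RSec.res P hUW (K29.RSec.res P hW (app (lft adj g) (pre f V) s)) = 0 := by
        rw [e, map_zero]
      rw [res_res] at this
      exact this
    obtain ⟨κ, hκ⟩ := (hg U hU).lift (Sec (L.obj N) (pre f U)) (us adj U) (us_smul adj U)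
    have key : ∀ s' : Sec (L.obj N) (pre f U), Good adj U s' → κ (app (lft adj g) (pre f U) s') = s' := by
      intro s' hs'
      induction hs' using Submodule.span_induction with
      | mem x hx =>
        obtain ⟨m, rfl⟩ := hx
        rw [app_lft_us, ← gs_apply, hκ]
      | zero => rw [map_zero, map_zero]
      | add x x' _ _ hx hx' => rw [map_add, map_add, hx, hx']
      | smul a x _ hx => rw [map_smul, map_smul, hx]
    have := key _ hs'
    rw [e', map_zero] at this
    rw [← this, map_zero]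
  · intro t
    obtain ⟨W, hyW, s, rfl⟩ := exists_gm P y t
    obtain ⟨V, hV, hyV, -, hVW⟩ := hB y ⊤ W trivial hyW
    rw [← gm_res P y hVW hyV]
    generalize K29.RSec.res P hVW s = s
    induction s using (hg V hV).induction with
    | zero => exact ⟨0, by rw [map_zero, map_zero]⟩
    | tmul m => exact ⟨gm _ y (pre f V) hyV (us adj V m), by rw [stMap_gm, app_lft_us]; rfl⟩
    | smul a x hx =>
      obtain ⟨u, hu⟩ := hx
      exact ⟨gmO R1 y (pre f V) hyV a • u, by rw [map_smul, hu, gm_smul]⟩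
    | add x x' hx hx' =>
      obtain ⟨u, hu⟩ := hx
      obtain ⟨u', hu'⟩ := hx'
      exact ⟨u + u', by rw [map_add, map_add, hu, hu']⟩

end Pull

section Basis

variable {T : TopCat.{u}} {R : Sheaf (Opens.grothendieckTopology T) CommRingCat.{u}}

/-- `𝓑` is a basis of `T`. -/
def Basis (𝓑 : Set (Opens T)) : Prop := ∀ (x : T) (V : Opens T), x ∈ V → ∃ V' ∈ 𝓑, x ∈ V' ∧ V' ≤ V

theorem Basis.injective {𝓑 : Set (Opens T)} (hB : Basis 𝓑) {M N : Mod R} (φ : M ⟶ N)
    (h : ∀ V ∈ 𝓑, Function.Injective (app φ V)) (x : T) : Function.Injective (stMap φ x) := by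
  rw [injective_iff_map_eq_zero]
  intro t ht
  obtain ⟨V, hV, s, rfl⟩ := exists_gm M x t
  rw [stMap_gm] at ht
  obtain ⟨W, hyW, hW, e⟩ := exists_res_eq_zero N _ ht
  obtain ⟨U, hU, hyU, hUW⟩ := hB x W hyW
  rw [← gm_res _ x (hUW.trans hW) hyU]
  have : res M (hUW.trans hW) s = 0 := by
    apply h U hU
    rw [app_res, ← res_res N hW hUW, e, map_zero, map_zero]
  rw [this, map_zero]

theorem Basis.surjective {𝓑 : Set (Opens T)} (hB : Basis 𝓑) {M N : Mod R} (φ : M ⟶ N)
    (h : ∀ V ∈ 𝓑, Function.Surjective (app φ V)) (x : T) : Function.Surjective (stMap φ x) := by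
  intro t
  obtain ⟨V, hV, s, rfl⟩ := exists_gm N x t
  obtain ⟨U, hU, hyU, hUV⟩ := hB x V hV
  obtain ⟨m, hm⟩ := h U hU (res N hUV s)
  exact ⟨gm M x U hyU m, by rw [stMap_gm, hm, gm_res]⟩

theorem Basis.isIso {𝓑 : Set (Opens T)} (hB : Basis 𝓑) {M N : Mod R} (φ : M ⟶ N)
    (h : ∀ V ∈ 𝓑, Function.Bijective (app φ V)) : IsIso φ :=
  (isIso_iff_stMap φ).2 fun x => ⟨hB.injective φ (fun V hV => (h V hV).1) x, hB.surjective φ (fun V hV => (h V hV).2) x⟩

theorem Basis.hom_ext {𝓑 : Set (Opens T)} (hB : Basis 𝓑) {M N : Mod R} {φ ψ : M ⟶ N}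
    (h : ∀ V ∈ 𝓑, ∀ m, app φ V m = app ψ V m) : φ = ψ := by
  apply K29.RSec.hom_ext
  intro V m
  apply eq_of_forall_nhds N
  intro x hx
  obtain ⟨U, hU, hyU, hUV⟩ := hB x V hx
  exact ⟨U, hyU, hUV, by rw [← app_res, ← app_res, h U hU]⟩

theorem Basis.exact {𝓑 : Set (Opens T)} (hB : Basis 𝓑) {M₁ M₂ M₃ : Mod R} (φ : M₁ ⟶ M₂) (ψ : M₂ ⟶ M₃)
    (h : ∀ V ∈ 𝓑, ∀ m, app ψ V m = 0 → ∃ m', app φ V m' = m) (x : T) (t : St M₂ x) (ht : stMap ψ x t = 0) :
    ∃ s, stMap φ x s = t := by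
  obtain ⟨V, hV, s, rfl⟩ := exists_gm M₂ x t
  rw [stMap_gm] at ht
  obtain ⟨W, hyW, hW, e⟩ := exists_res_eq_zero M₃ _ ht
  obtain ⟨U, hU, hyU, hUW⟩ := hB x W hyW
  obtain ⟨m', hm'⟩ := h U hU (res M₂ (hUW.trans hW) s) (by
    rw [app_res, ← res_res M₃ hW hUW, e, map_zero])
  exact ⟨gm M₁ x U hyU m', by rw [stMap_gm, hm', gm_res]⟩

theorem Basis.shortExact {𝓑 : Set (Opens T)} (hB : Basis 𝓑) (S : ShortComplex (Mod R))
    (h₁ : ∀ V ∈ 𝓑, Function.Injective (app S.f V))
    (h₂ : ∀ V ∈ 𝓑, ∀ m, app S.g V m = 0 → ∃ m', app S.f V m' = m)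
    (h₃ : ∀ V ∈ 𝓑, Function.Surjective (app S.g V)) : S.ShortExact :=
  (shortExact_iff_stMap S).2 fun x => ⟨hB.injective S.f h₁ x, fun t ht => hB.exact S.f S.g h₂ x t ht,
    hB.surjective S.g h₃ x⟩

end Basis

end K28.BasisIso
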