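import Groth.Prelude.Def_FSch5
import Groth.Agent.FCompl.K28.AdicSq

/-!
# The restriction of a system of thickenings to an open

* `isPullback_resLE_of_eq`: the square of `f.resLE U V` is cartesian when `V = f ⁻¹ᵁ U`.
* `isAdicHom_restrictOpenι`: the inclusion of the restriction of a formal system to an open is adic.
* `isFormal_restrictOpen`, `isLocNoethFormal_restrictOpen`.
-/

set_option autoImplicit false
universe u

open CategoryTheory CategoryTheory.Limits AlgebraicGeometry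

namespace K28.RestrictSys

/-- The square of `f.resLE U V` is cartesian when `V = f ⁻¹ᵁ U`. -/
lemma isPullback_resLE_of_eq {X Y : Scheme.{u}} (f : X ⟶ Y) (U : Y.Opens) (V : X.Opens)
    (e : f ⁻¹ᵁ U = V) : IsPullback V.ι (f.resLE U V e.ge) f U.ι := by
  subst e
  rw [Scheme.Hom.resLE_eq_morphismRestrict]
  exact (isPullback_morphismRestrict f U).flip

variable (𝔛 : FSch.Sys.{u}) (h : 𝔛.IsFormal) (U : (𝔛.X 0).Opens)

/-- The inclusion of the restriction of a formal system to an open is adic. -/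
lemma isAdicHom_restrictOpenι : FSch.IsAdicHom (𝔛.restrictOpenι h U) := fun n =>
  (isPullback_resLE_of_eq (𝔛.ι n) (𝔛.lvU h (n + 1) U) (𝔛.lvU h n U) (𝔛.lvU_succ h n U)).flip

lemma isFormal_restrictOpen : (𝔛.restrictOpen h U).IsFormal :=
  Groth.Agent.S3857.isFormal_of_isAdicHom _ h (isAdicHom_restrictOpenι 𝔛 h U)

lemma isLocNoethFormal_restrictOpen (h𝔛 : 𝔛.IsLocNoethFormal) :
    (𝔛.restrictOpen h U).IsLocNoethFormal := by
  have h0 : IsLocallyNoetherian (𝔛.X 0) := h𝔛.2.2 0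
  have : IsLocallyNoetherian ((𝔛.restrictOpen h U).X 0) :=
    @isLocallyNoetherian_of_isOpenImmersion ((𝔛.lvU h 0 U : (𝔛.X 0).Opens) : Scheme.{u}) (𝔛.X 0)
      (Scheme.Opens.ι (𝔛.lvU h 0 U)) inferInstance h0
  exact Groth.Agent.S3857.result (𝔛.restrictOpenι h U) h𝔛 (isAdicHom_restrictOpenι 𝔛 h U)

lemma compactSpace_restrictOpen (h𝔛 : 𝔛.IsLocNoethFormal) (hc : CompactSpace (𝔛.X 0)) :
    CompactSpace ((𝔛.restrictOpen h U).X 0) := by
  have h0 : IsLocallyNoetherian (𝔛.X 0) := h𝔛.2.2 0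
  have h1 : IsNoetherian (𝔛.X 0) := {}
  have h2 : TopologicalSpace.NoetherianSpace (𝔛.X 0) := inferInstance
  have h3 : IsCompact ((𝔛.lvU h 0 U : (𝔛.X 0).Opens) : Set (𝔛.X 0)) :=
    TopologicalSpace.NoetherianSpace.isCompact _
  exact isCompact_iff_compactSpace.mp h3

end K28.RestrictSys
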