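import Groth.Agent.FCompl.K28.RealPres
import Groth.Agent.FCompl.K28.RestrictSys
import Groth.Agent.Gaga.H985.CohMod

/-!
# Coherence of the structure sheaf of a locally Noetherian formal system

* `isFinitePresentation_free`, `isFinitePresentation_unit`: finite free modules over a sheaf of rings on a space;
* `cohAt_of_basis`: a sheaf of rings with Noetherian sections and flat restrictions on a basis is coherent;
* `cohAt_Osh`; `isFiniteType_kernel`, `isFinitePresentation_kernel`, `isFinitePresentation_of_mono`;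
* `isFiniteType_kernel_free` (= S13338).
-/

set_option autoImplicit false
set_option linter.style.haveILetI false

universe u

open CategoryTheory CategoryTheory.Limits AlgebraicGeometry TopologicalSpace Opposite
open K29.RSec K29.RStalk K29.RPres K28.BasisIso K28.RealAff
open Groth.Agent.Gaga.H976.TM0 Groth.Agent.Gaga.H976.TM1
open Groth.Agent.Gaga.H976.TM3 (LGen LRel FPAt FTAt)
open Groth.Agent.Gaga.H985.CohMod

noncomputable section

namespace K28.CohRing

section Free

variable {T : TopCat.{u}} {R : Sheaf (Opens.grothendieckTopology T) RingCat.{u}}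

theorem fpAt_free (I : Type u) [Finite I] (x : T) : FPAt (SheafOfModules.free (R := R) I) x := by
  classical
  obtain ⟨n, ⟨e⟩⟩ := Finite.exists_equiv_fin I
  have : Fintype I := Fintype.ofFinite I
  refine ⟨⊤, trivial, n, 0, fun j => sec (SheafOfModules.freeSection (R := R) (e.symm j)) (op ⊤), Fin.elim0, ?_, ?_⟩
  · intro V hV t y hy
    refine ⟨V, le_rfl, hy, fun j => co t (e.symm j), ?_⟩
    have h1 : t = ∑ i, co t i • sec (SheafOfModules.freeSection (R := R) i) (op V) := (ofCo_co t).symm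
    have h2 : Groth.Agent.Gaga.H976.TM3.rs (SheafOfModules.free (R := R) I) le_rfl t = t :=
      Groth.Agent.Gaga.H976.TM3.rs_self _ _ t
    rw [h2]
    refine h1.trans ?_
    refine (Fintype.sum_equiv e _ _ fun i => ?_)
    have h4 : ∀ j, e.symm j = i → co t i • sec (SheafOfModules.freeSection i) (op V) = co t (e.symm j) •
        Groth.Agent.Gaga.H976.TM3.rs (SheafOfModules.free I) (le_rfl.trans hV)
          (sec (SheafOfModules.freeSection (R := R) (e.symm j)) (op ⊤)) := by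
      intro j hj
      rw [hj]
      congr 1
      exact (sec_map (SheafOfModules.freeSection (R := R) i) (homOfLE (le_rfl.trans hV)).op).symm
    exact h4 (e i) (Equiv.symm_apply_apply _ _)
  · refine ⟨fun k => k.elim0, fun V hV c hc y hy => ⟨V, le_rfl, hy, Fin.elim0, fun j => ?_⟩⟩
    have h1 : (ofCo (R := R) (X := op V) (fun i => c (e i))) = 0 := by
      rw [← hc]
      refine (Fintype.sum_equiv e _ _ fun i => ?_)
      have h4 : ∀ j, e.symm j = i → c j • sec (SheafOfModules.freeSection i) (op V) = c j •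
          Groth.Agent.Gaga.H976.TM3.rs (SheafOfModules.free I) hV
            (sec (SheafOfModules.freeSection (R := R) (e.symm j)) (op ⊤)) := by
        intro j hj
        rw [hj]
        congr 1
        exact (sec_map (SheafOfModules.freeSection (R := R) i) (homOfLE hV).op).symm
      exact h4 (e i) (Equiv.symm_apply_apply _ _)
    have h2 : c j = 0 := by
      have h3 := co_ofCo (R := R) (X := op V) (fun i => c (e i)) (e.symm j)
      rw [h1, Equiv.apply_symm_apply] at h3
      rw [← h3]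
      exact map_zero ((coord R (e.symm j)).val.app (op V)).hom
    rw [h2, map_zero]
    simp

theorem isFinitePresentation_free (I : Type u) [Finite I] :
    (SheafOfModules.free (R := R) I).IsFinitePresentation := by
  rw [Groth.Agent.Gaga.H976.TM3.isFinitePresentation_iff]
  exact fun x => fpAt_free I x

theorem fpAt_unit (x : T) : FPAt (SheafOfModules.unit R) x := by
  refine ⟨⊤, trivial, 1, 0, fun _ => (1 : R.obj.obj (op ⊤)), Fin.elim0, ?_, ?_⟩
  · intro V hV t y hy
    refine ⟨V, le_rfl, hy, fun _ => t, ?_⟩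
    rw [Fin.sum_univ_one]
    have h2 : Groth.Agent.Gaga.H976.TM3.rs (SheafOfModules.unit R) le_rfl t = t :=
      Groth.Agent.Gaga.H976.TM3.rs_self _ _ t
    rw [h2]
    have h3 : Groth.Agent.Gaga.H976.TM3.rs (SheafOfModules.unit R) (le_rfl.trans hV) (1 : R.obj.obj (op ⊤)) =
        (1 : R.obj.obj (op V)) := map_one (R.obj.map (homOfLE (le_rfl.trans hV)).op).hom
    rw [h3]
    exact (mul_one (show R.obj.obj (op V) from t)).symm
  · refine ⟨fun k => k.elim0, fun V hV c hc y hy => ⟨V, le_rfl, hy, Fin.elim0, fun j => ?_⟩⟩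
    have h1 : c 0 = 0 := by
      rw [Fin.sum_univ_one] at hc
      have h3 : Groth.Agent.Gaga.H976.TM3.rs (SheafOfModules.unit R) hV (1 : R.obj.obj (op ⊤)) =
        (1 : R.obj.obj (op V)) := map_one (R.obj.map (homOfLE hV).op).hom
      rw [h3] at hc
      exact (mul_one (c 0)).symm.trans hc
    have h2 : c j = 0 := by rw [Subsingleton.elim j 0]; exact h1
    rw [h2, map_zero]
    simp

theorem isFinitePresentation_unit : (SheafOfModules.unit R).IsFinitePresentation := by
  rw [Groth.Agent.Gaga.H976.TM3.isFinitePresentation_iff]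
  exact fun x => fpAt_unit x

end Free

section Coh

variable {T : TopCat.{u}} {R : Sheaf (Opens.grothendieckTopology T) CommRingCat.{u}}

variable (R) in
/-- Coherence near a point in terms of `O R`. -/
def CohO (x : T) : Prop :=
  ∀ (W : Opens T), x ∈ W → ∀ (a b : ℕ) (h : Fin a → Fin b → O R W),
    ∃ (V : Opens T) (hV : V ≤ W), x ∈ V ∧ ∃ (s : ℕ) (g : Fin s → Fin a → O R V),
      (∀ k i, ∑ j, g k j * resO (R := R) hV (h j i) = 0) ∧
      ∀ (V' : Opens T) (h' : V' ≤ V) (c : Fin a → O R V'),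
        (∀ i, ∑ j, c j * resO (R := R) (h'.trans hV) (h j i) = 0) → ∀ y ∈ V',
          ∃ (V'' : Opens T) (h'' : V'' ≤ V'), y ∈ V'' ∧ ∃ d : Fin s → O R V'',
            ∀ j, resO (R := R) h'' (c j) = ∑ k, d k * resO (R := R) (h''.trans h') (g k j)

theorem cohAt_iff (x : T) : CohAt (ringSheaf R) x ↔ CohO R x := Iff.rfl

/-- Vectors times a matrix. -/
def matL {A : Type u} [CommRing A] {a b : ℕ} (h : Fin a → Fin b → A) : (Fin a → A) →ₗ[A] (Fin b → A) :=
  Fintype.linearCombination A h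

theorem matL_apply {A : Type u} [CommRing A] {a b : ℕ} (h : Fin a → Fin b → A) (c : Fin a → A) (i : Fin b) :
    matL h c i = ∑ j, c j * h j i := by
  rw [matL, Fintype.linearCombination_apply, Finset.sum_apply]
  rfl

theorem matL_map {A B : Type u} [CommRing A] [CommRing B] (ρ : A →+* B) {a b : ℕ} (h : Fin a → Fin b → A)
    (c : Fin a → A) : matL (fun j i => ρ (h j i)) (fun j => ρ (c j)) = fun i => ρ (matL h c i) := by
  funext i
  rw [matL_apply, matL_apply, map_sum]
  exact Finset.sum_congr rfl fun j _ => (map_mul _ _ _).symm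

/-- Relations with coefficients in a Noetherian ring and their flat base change. -/
theorem exists_rel_flat {A : Type u} [CommRing A] [IsNoetherianRing A] {a b : ℕ} (h : Fin a → Fin b → A) :
    ∃ (s : ℕ) (g : Fin s → Fin a → A), (∀ k, matL h (g k) = 0) ∧
      ∀ (B : Type u) [CommRing B] (ρ : A →+* B), ρ.Flat → ∀ c : Fin a → B,
        matL (fun j i => ρ (h j i)) c = 0 → ∃ d : Fin s → B, ∀ j, c j = ∑ k, d k * ρ (g k j) := by
  obtain ⟨s, g, hg⟩ := Submodule.fg_iff_exists_fin_generating_family.1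
    (IsNoetherian.noetherian (LinearMap.ker (matL h)))
  have hex : Function.Exact (matL g) (matL h) := by
    intro c
    rw [← LinearMap.mem_ker, ← hg, Submodule.mem_span_range_iff_exists_fun]
    constructor
    · rintro ⟨d, hd⟩
      exact ⟨d, (Fintype.linearCombination_apply _ _ _).trans hd⟩
    · rintro ⟨d, hd⟩
      exact ⟨d, (Fintype.linearCombination_apply _ _ _).symm.trans hd⟩
  refine ⟨s, g, fun k => ?_, fun B _ ρ hρ c hc => ?_⟩
  · have h2 : g k ∈ LinearMap.ker (matL h) := by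
      rw [← hg]
      exact Submodule.subset_span ⟨k, rfl⟩
    exact h2
  · have hex' : Function.Exact (matL (fun j i => ρ (g j i))) (matL (fun j i => ρ (h j i))) :=
      SBC.exact (SBC.piFin ρ s) (SBC.piFin ρ a) (SBC.piFin ρ b) hρ (matL g) (matL h) _ _
        (fun m => matL_map ρ g m) (fun m => matL_map ρ h m) hex
    obtain ⟨d, hd⟩ := (hex' _).1 hc
    refine ⟨d, fun j => ?_⟩
    rw [← hd, matL_apply]

/-- A sheaf of rings with Noetherian sections and flat restrictions on a basis is coherent. -/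
theorem cohAt_of_basis {𝓑 : Set (Opens T)} (hB : Basis 𝓑) (hN : ∀ U ∈ 𝓑, IsNoetherianRing (O R U))
    (hfl : ∀ U ∈ 𝓑, ∀ V ∈ 𝓑, ∀ hVU : V ≤ U, (resO (R := R) hVU).Flat) (x : T) : CohAt (ringSheaf R) x := by
  rw [cohAt_iff]
  intro W hx a b h
  obtain ⟨V, hV, hxV, hVW⟩ := hB x W hx
  have := hN V hV
  obtain ⟨s, g, hg, hg'⟩ := exists_rel_flat (fun j i => resO (R := R) hVW (h j i))
  refine ⟨V, hVW, hxV, s, g, fun k i => ?_, fun V' h1 c hc y hy => ?_⟩
  · have h3 := congrFun (hg k) i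
    rw [matL_apply] at h3
    exact h3
  · obtain ⟨V'', hV'', hyV, hVV⟩ := hB y V' hy
    refine ⟨V'', hVV, hyV, ?_⟩
    refine hg' (O R V'') (resO (R := R) (hVV.trans h1)) (hfl V hV V'' hV'' (hVV.trans h1))
      (fun j => resO (R := R) hVV (c j)) ?_
    funext i
    rw [matL_apply]
    have h4 := congrArg (resO (R := R) hVV) (hc i)
    rw [map_zero, map_sum] at h4
    refine Eq.trans ?_ h4
    refine Finset.sum_congr rfl fun j _ => ?_
    rw [map_mul, resO_resO, resO_resO]

end Coh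

section Osh

variable {𝔛 : FSch.Sys.{u}} (h𝔛 : 𝔛.IsLocNoethFormal)

theorem flat_resO {U V : (𝔛.X 0).Opens} (hU : IsAffineOpen (𝔛.lvU h𝔛.1 0 U))
    (hV : IsAffineOpen (𝔛.lvU h𝔛.1 0 V)) (i : V ≤ U) : (resO (R := 𝔛.Osh h𝔛.1) i).Flat :=
  K919.AffFlat.flat_rs h𝔛 hU hV i

/-- The structure sheaf of a locally Noetherian formal system is coherent. -/
theorem cohAt_Osh (x : 𝔛.X 0) : CohAt (ringSheaf (𝔛.Osh h𝔛.1)) x :=
  cohAt_of_basis (RealLevel.basis_aff 𝔛 h𝔛.1) (fun _ hU => isNoetherianRing_O h𝔛 hU)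
    (fun _ hU _ hV i => flat_resO h𝔛 hU hV i) x

/-- Kernels of morphisms of coherent modules are coherent. -/
theorem isCohF_kernel {𝔉 𝔊 : FSch.ModF 𝔛 h𝔛.1} (φ : 𝔉 ⟶ 𝔊) (h𝔉 : FSch.IsCohF 𝔛 h𝔛.1 𝔉)
    (h𝔊 : FSch.IsCohF 𝔛 h𝔛.1 𝔊) : FSch.IsCohF 𝔛 h𝔛.1 (kernel φ) :=
  isFinitePresentation_kernel (cohAt_Osh h𝔛) φ h𝔉 h𝔊

/-- Submodules of finite type of coherent modules are coherent. -/
theorem isCohF_of_mono {𝔉 𝔊 : FSch.ModF 𝔛 h𝔛.1} (φ : 𝔉 ⟶ 𝔊) [Mono φ]
    (h𝔉 : SheafOfModules.IsFiniteType (R := ModSite.ringSh (𝔛.Osh h𝔛.1)) 𝔉)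
    (h𝔊 : FSch.IsCohF 𝔛 h𝔛.1 𝔊) : FSch.IsCohF 𝔛 h𝔛.1 𝔉 :=
  isFinitePresentation_of_mono (cohAt_Osh h𝔛) φ h𝔉 h𝔊

theorem isCohF_unit : FSch.IsCohF 𝔛 h𝔛.1 (FSch.unitF 𝔛 h𝔛.1) := isFinitePresentation_unit

theorem isCohF_free (I : Type u) [Finite I] :
    FSch.IsCohF 𝔛 h𝔛.1 (SheafOfModules.free (R := ModSite.ringSh (𝔛.Osh h𝔛.1)) I) := isFinitePresentation_free I

/-- The kernel of a morphism from a module of finite type to a coherent module is of finite type. -/
theorem isFiniteType_kernel {𝔉 𝔊 : FSch.ModF 𝔛 h𝔛.1} (φ : 𝔉 ⟶ 𝔊)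
    (h𝔉 : SheafOfModules.IsFiniteType (R := ModSite.ringSh (𝔛.Osh h𝔛.1)) 𝔉)
    (h𝔊 : FSch.IsCohF 𝔛 h𝔛.1 𝔊) : SheafOfModules.IsFiniteType (R := ModSite.ringSh (𝔛.Osh h𝔛.1)) (kernel φ) := by
  have h1 := (Groth.Agent.Gaga.H976.TM3.isFiniteType_iff _).1 h𝔉
  have h2 := (Groth.Agent.Gaga.H976.TM3.isFinitePresentation_iff _).1 h𝔊
  exact (Groth.Agent.Gaga.H976.TM3.isFiniteType_iff _).2 fun x => ftAt_kernel (cohAt_Osh h𝔛 x) φ (h1 x) (h2 x)

end Osh

theorem isFiniteType_kernel_free (𝔛 : FSch.Sys.{u}) (h𝔛 : 𝔛.IsLocNoethFormal)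
    (U : (𝔛.X 0).Opens) (hU : (𝔛.restrictOpen h𝔛.1 U).IsFormal) (n : ℕ)
    (φ : SheafOfModules.free (ULift.{u} (Fin n)) ⟶ FSch.unitF (𝔛.restrictOpen h𝔛.1 U) hU) :
    SheafOfModules.IsFiniteType (R := ModSite.ringSh ((𝔛.restrictOpen h𝔛.1 U).Osh hU)) (kernel φ) := by
  have h1 := RestrictSys.isLocNoethFormal_restrictOpen 𝔛 h𝔛.1 U h𝔛
  have h2 := isCohF_free h1 (ULift.{u} (Fin n))
  have h3 := isFinitePresentation_kernel (cohAt_Osh h1) φ h2 (isCohF_unit h1)
  have := h3
  infer_instance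

end K28.CohRing
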