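import Groth.Agent.FCompl.K28.ToSch
import Groth.Agent.FormalB.PullCoh
import Groth.Agent.PerfA.QCohExt

/-!
# The completion of a coherent module on a locally Noetherian scheme

`h : (completionAlong X 𝓘).IsFormal`, `κ = K920.KapSch.kap X 𝓘 h`.
* `sbc_eta`: for `F` coherent and `V` affine `Γ(F, V) → Γ(F^, κ⁻¹ V)` is a base change along `O(V) → O^(κ⁻¹ V)`;
* `isIso_lft_eta`, `exists_pull_iso` (= S13339): `κ^* F → F^` is an isomorphism;
* `realModMap_eta`: naturality; `shortExact` (= S13340).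
-/

set_option autoImplicit false
set_option linter.style.haveILetI false

universe u

open CategoryTheory CategoryTheory.Limits AlgebraicGeometry TopologicalSpace Opposite
open K29.RSec K29.RStalk K29.RPull K919.AffBasic K28.RealSec K28.BasisIso K28.RealAff K28.ToSch
open Groth.Agent.VarietyB

noncomputable section

namespace K28.ComplMod

variable {X : Scheme.{u}} {𝓘 : X.IdealSheafData} (h : (FSch.completionAlong X 𝓘).IsFormal)

theorem isCoh_complMod {F : X.Modules} (hF : Coh.IsCoh F) : (FSch.complMod 𝓘 F).IsCoh := fun _ =>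
  Groth.Agent.FormalB.PullCoh.isCoh_pullback _ hF

variable (X 𝓘) in
theorem isLocNoeth [IsLocallyNoetherian X] : (FSch.completionAlong X 𝓘).IsLocNoethFormal :=
  Groth.Agent.S3854.result X 𝓘

theorem isAffineOpen_lv {V : X.Opens} (hV : IsAffineOpen V) :
    IsAffineOpen ((FSch.completionAlong X 𝓘).lvU h 0 (FSch.completionToX X 𝓘 0 ⁻¹ᵁ V)) :=
  K920.KapSch.isAffineOpen_pre h ⟨V, hV⟩

variable (X 𝓘) in
/-- The preimages of affine opens. -/
def preAff : Set ((FSch.completionAlong X 𝓘).X 0).Opens :=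
  {U | ∃ V : X.Opens, IsAffineOpen V ∧ U = FSch.completionToX X 𝓘 0 ⁻¹ᵁ V}

variable (X) in
theorem basis_affineOpens : Basis (T := X.carrier) {V : X.Opens | IsAffineOpen V} := by
  intro x V hx
  obtain ⟨_, ⟨U, hU, rfl⟩, hxU, hUV⟩ := X.isBasis_affineOpens.exists_subset_of_mem_open hx V.2
  exact ⟨U, hU, hxU, hUV⟩

variable (X 𝓘) in
theorem isInducing_bs : Topology.IsInducing (K920.KapSch.bs X 𝓘) := by
  have h1 : IsClosedImmersion (FSch.completionToX X 𝓘 0) :=
    inferInstanceAs (IsClosedImmersion (𝓘 ^ (0 + 1)).subschemeι)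
  exact (FSch.completionToX X 𝓘 0).isClosedEmbedding.isInducing

variable (X 𝓘) in
theorem cofinal_bs : Cofinal (K920.KapSch.bs X 𝓘) {V : X.Opens | IsAffineOpen V} :=
  cofinal_of_embedding _ (isInducing_bs X 𝓘) (basis_affineOpens X)

variable (X 𝓘) in
theorem basis_preAff : Basis (T := ((FSch.completionAlong X 𝓘).X 0).carrier) (preAff X 𝓘) := by
  intro y W hy
  obtain ⟨V, hV, hyV, -, hVW⟩ := cofinal_bs X 𝓘 y ⊤ W trivial hy
  exact ⟨_, ⟨V, hV, rfl⟩, hyV, hVW⟩

/-- Sections of the completion over (the preimage of) an affine open. -/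
theorem sbc_eta [IsLocallyNoetherian X] {F : X.Modules} (hF : Coh.IsCoh F) {V : X.Opens} (hV : IsAffineOpen V) :
    SBC (A := O X.sheaf V) (M := Sec (R := X.sheaf) F V) (cm (K920.KapSch.phi X 𝓘 h) V)
      (gs (φ := K920.KapSch.phi X 𝓘 h) (eta 𝓘 h F) V) := by
  have h𝔛 := isLocNoeth X 𝓘
  have hV' := isAffineOpen_lv (𝓘 := 𝓘) h hV
  have hc := isCoh_complMod (𝓘 := 𝓘) hF
  have i1 := isNoetherianRing_O h𝔛 hV'
  have i2 := isAdicComplete_O h𝔛 hV'
  have i3 : Module.Finite (O X.sheaf V) (Sec (R := X.sheaf) F V) := LevelBC.finite_sections hF hV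
  have i4 := finite_sec h𝔛 hV' hc
  refine SBC.of_levels (gs_smul (φ := K920.KapSch.phi X 𝓘 h) (eta 𝓘 h F) V)
    (IS (FSch.completionAlong X 𝓘) h (FSch.completionToX X 𝓘 0 ⁻¹ᵁ V))
    (fun n => pk (FSch.completionAlong X 𝓘) h n (FSch.completionToX X 𝓘 0 ⁻¹ᵁ V))
    (pk_surjective h𝔛 hV') (fun n => (ker_pk h𝔛 hV' n).le)
    (fun n => ps (FSch.completionAlong X 𝓘) h (FSch.complMod 𝓘 F).F (FSch.complMod 𝓘 F).toPush n
      (FSch.completionToX X 𝓘 0 ⁻¹ᵁ V))
    (fun n => ps_smul (FSch.completionAlong X 𝓘) h (FSch.complMod 𝓘 F).F (FSch.complMod 𝓘 F).toPush n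
      (FSch.completionToX X 𝓘 0 ⁻¹ᵁ V)) (fun x hx => ?_) (fun n => ?_)
  · have := mem_smul_of_ps h𝔛 hV' hc 0 x hx
    rwa [pow_one] at this
  · have h1 := LevelBC.sbc_sec (FSch.completionToX X 𝓘 n) hF.1
      (FSch.lvU_p (FSch.completionAlong X 𝓘) h (FSch.completionToX X 𝓘) (FSch.completionToX_comm X 𝓘) n V).ge hV
      (isAffineOpen_lvU _ h hV' n)
    have e1 : ((FSch.completionToX X 𝓘 n).appLE V _ (FSch.lvU_p (FSch.completionAlong X 𝓘) h
        (FSch.completionToX X 𝓘) (FSch.completionToX_comm X 𝓘) n V).ge).hom =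
        (pk (FSch.completionAlong X 𝓘) h n (FSch.completionToX X 𝓘 0 ⁻¹ᵁ V)).comp
          (cm (K920.KapSch.phi X 𝓘 h) V) :=
      RingHom.ext fun a => (pk_cm (FSch.completionAlong X 𝓘) h (FSch.completionToX X 𝓘)
        (FSch.completionToX_comm X 𝓘) n V a).symm
    have e2 : PullSec.sec (FSch.completionToX X 𝓘 n) F
      (FSch.lvU_p (FSch.completionAlong X 𝓘) h (FSch.completionToX X 𝓘) (FSch.completionToX_comm X 𝓘) n V).ge =
        (ps (FSch.completionAlong X 𝓘) h (FSch.complMod 𝓘 F).F (FSch.complMod 𝓘 F).toPush n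
          (FSch.completionToX X 𝓘 0 ⁻¹ᵁ V)).comp (gs (φ := K920.KapSch.phi X 𝓘 h) (eta 𝓘 h F) V) :=
      AddMonoidHom.ext fun a => (ps_eta h F n V a).symm
    rw [e1, e2] at h1
    exact h1

theorem isIso_lft_eta [IsLocallyNoetherian X] {F : X.Modules} (hF : Coh.IsCoh F) :
    IsIso (lft (φ := K920.KapSch.phi X 𝓘 h) (K920.KapSch.kap X 𝓘 h).adj (eta 𝓘 h F)) :=
  isIso_lft (φ := K920.KapSch.phi X 𝓘 h) (K920.KapSch.kap X 𝓘 h).adj (eta 𝓘 h F) (cofinal_bs X 𝓘)
    fun _ hV => sbc_eta h hF hV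

theorem eta_realProj' (F : X.Modules) (k : ℕ) :
    eta 𝓘 h F ≫ (K920.KapSch.kap X 𝓘 h).push.map
        (FSch.realProj (FSch.completionAlong X 𝓘) h (FSch.complMod 𝓘 F).F (FSch.complMod 𝓘 F).toPush k) =
      (Scheme.Modules.pullbackPushforwardAdjunction (FSch.completionToX X 𝓘 k)).unit.app F ≫
          (FSch.schPushCompare (FSch.completionAlong X 𝓘) h (FSch.completionToX X 𝓘) (FSch.completionToX_comm X 𝓘) k).app _ :=
  eta_realProj (FSch.completionAlong X 𝓘) h (FSch.completionToX X 𝓘) (FSch.completionToX_comm X 𝓘)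
    (FSch.complMod 𝓘 F).toPush
    (fun k => (Scheme.Modules.pullbackPushforwardAdjunction (FSch.completionToX X 𝓘 k)).unit.app F) (eta 𝓘 h F)
    (ps_eta h F) k

theorem exists_pull_iso [IsLocallyNoetherian X] (F : X.Modules) (hF : Coh.IsCoh F) :
    ∃ e : (K920.KapSch.kap X 𝓘 h).pull.obj F ≅ (FSch.complMod 𝓘 F).realMod h,
      ∀ k, ((K920.KapSch.kap X 𝓘 h).adj.homEquiv _ _ e.hom) ≫
          (K920.KapSch.kap X 𝓘 h).push.map
            (FSch.realProj (FSch.completionAlong X 𝓘) h (FSch.complMod 𝓘 F).F (FSch.complMod 𝓘 F).toPush k) =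
        (Scheme.Modules.pullbackPushforwardAdjunction (FSch.completionToX X 𝓘 k)).unit.app F ≫
          (FSch.schPushCompare (FSch.completionAlong X 𝓘) h (FSch.completionToX X 𝓘) (FSch.completionToX_comm X 𝓘) k).app _ := by
  have h1 := isIso_lft_eta (𝓘 := 𝓘) h hF
  refine ⟨asIso (lft (φ := K920.KapSch.phi X 𝓘 h) (K920.KapSch.kap X 𝓘 h).adj (eta 𝓘 h F)), fun k => ?_⟩
  have h2 : (K920.KapSch.kap X 𝓘 h).adj.homEquiv _ _
      (asIso (lft (φ := K920.KapSch.phi X 𝓘 h) (K920.KapSch.kap X 𝓘 h).adj (eta 𝓘 h F))).hom = eta 𝓘 h F :=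
    ((K920.KapSch.kap X 𝓘 h).adj.homEquiv _ _).apply_symm_apply (eta 𝓘 h F)
  rw [h2]
  exact eta_realProj' h F k

/-- Naturality of sections of pullbacks. -/
theorem sec_naturality {Y : Scheme.{u}} (g : Y ⟶ X) {F G : X.Modules} (φ : F ⟶ G) {U : X.Opens} {V : Y.Opens}
    (e : V ≤ g ⁻¹ᵁ U) (s : Γ(F, U)) :
    ((Scheme.Modules.pullback g).map φ).app V (PullSec.sec g F e s) = PullSec.sec g G e (φ.app U s) := by
  rw [PullSec.sec_apply, PullSec.sec_apply]
  have h1 := congrArg (fun β => β.app U s) ((Scheme.Modules.pullbackPushforwardAdjunction g).unit.naturality φ)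
  have h2 : ((Scheme.Modules.pullback g).map φ).app (g ⁻¹ᵁ U)
      (((Scheme.Modules.pullbackPushforwardAdjunction g).unit.app F).app U s) =
        ((Scheme.Modules.pullbackPushforwardAdjunction g).unit.app G).app U (φ.app U s) := h1.symm
  rw [← h2]
  exact congr($(((Scheme.Modules.pullback g).map φ).mapPresheaf.naturality (homOfLE e).op) _)

/-- Naturality of `eta` on sections. -/
theorem app_realModMap_gs {F G : X.Modules} (φ : F ⟶ G) (V : X.Opens) (s : Γ(F, V)) :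
    app (FSch.ModSys.realModMap h (FSch.complModMap 𝓘 φ)) (FSch.completionToX X 𝓘 0 ⁻¹ᵁ V)
      (gs (φ := K920.KapSch.phi X 𝓘 h) (eta 𝓘 h F) V s) =
    gs (φ := K920.KapSch.phi X 𝓘 h) (eta 𝓘 h G) V (φ.app V s) := by
  apply sec_ext (FSch.completionAlong X 𝓘) h (FSch.complMod 𝓘 G).F (FSch.complMod 𝓘 G).toPush
  intro k
  refine (ps_realModMap h (FSch.complModMap 𝓘 φ) k _ _).trans ?_
  rw [ps_eta]
  refine Eq.trans ?_ (ps_eta h G k V (φ.app V s)).symm
  exact sec_naturality (FSch.completionToX X 𝓘 k) φ _ s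

/-- Completion of coherent modules is exact. -/
theorem shortExact [IsLocallyNoetherian X] (S : ShortComplex X.Modules) (hS : S.ShortExact)
    (h1 : Coh.IsCoh S.X₁) (h2 : Coh.IsCoh S.X₂) (h3 : Coh.IsCoh S.X₃)
    (w : FSch.ModSys.realModMap h (FSch.complModMap 𝓘 S.f) ≫ FSch.ModSys.realModMap h (FSch.complModMap 𝓘 S.g) = 0) :
    (ShortComplex.mk _ _ w).ShortExact := by
  have key : ∀ V : X.Opens, IsAffineOpen V → Function.Injective (S.f.app V) ∧
      (∀ m, S.g.app V m = 0 → ∃ m', S.f.app V m' = m) ∧ Function.Surjective (S.g.app V) := by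
    intro V hV
    have := hS.mono_f
    refine ⟨?_, fun m hm => ?_, Groth.Agent.PerfA.QCohExt.app_surjective hS h1.1 V hV⟩
    · exact (K29.RExact.mono_iff_app (R := X.sheaf) S.f).1 this V
    · exact @K29.RExact.exists_app_of_exact _ X.sheaf S hS.exact this V m hm
  refine (basis_preAff X 𝓘).shortExact _ ?_ ?_ ?_
  · rintro _ ⟨V, hV, rfl⟩
    exact (sbc_eta h h1 hV).injective (sbc_eta h h2 hV) (K920.KapFlat.cm_flat h ⟨V, hV⟩)
      (app (R := X.sheaf) S.f V) (app (FSch.ModSys.realModMap h (FSch.complModMap 𝓘 S.f)) _)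
      (app_realModMap_gs h S.f V) (key V hV).1
  · rintro _ ⟨V, hV, rfl⟩ m hm
    have hex : Function.Exact (app (R := X.sheaf) S.f V) (app (R := X.sheaf) S.g V) := by
      intro m
      refine ⟨(key V hV).2.1 m, ?_⟩
      rintro ⟨m', rfl⟩
      exact congrArg (fun β => app (R := X.sheaf) β V m') S.zero
    exact ((sbc_eta h h1 hV).exact (sbc_eta h h2 hV) (sbc_eta h h3 hV) (K920.KapFlat.cm_flat h ⟨V, hV⟩)
      (app (R := X.sheaf) S.f V) (app (R := X.sheaf) S.g V)
      (app (FSch.ModSys.realModMap h (FSch.complModMap 𝓘 S.f)) _)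
      (app (FSch.ModSys.realModMap h (FSch.complModMap 𝓘 S.g)) _)
      (app_realModMap_gs h S.f V) (app_realModMap_gs h S.g V) hex m).1 hm
  · rintro _ ⟨V, hV, rfl⟩
    exact (sbc_eta h h3 hV).surjective
      (app (R := X.sheaf) S.g V) (app (FSch.ModSys.realModMap h (FSch.complModMap 𝓘 S.g)) _)
      (app_realModMap_gs h S.g V) (key V hV).2.2

theorem realModMap_comp_eq_zero [IsLocallyNoetherian X] {F G H : X.Modules} (f : F ⟶ G) (g : G ⟶ H)
    (hF : Coh.IsCoh F) (hfg : f ≫ g = 0) :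
    FSch.ModSys.realModMap h (FSch.complModMap 𝓘 f) ≫ FSch.ModSys.realModMap h (FSch.complModMap 𝓘 g) = 0 := by
  refine (basis_preAff X 𝓘).hom_ext ?_
  rintro _ ⟨V, hV, rfl⟩ m
  have e : (app (FSch.ModSys.realModMap h (FSch.complModMap 𝓘 f) ≫ FSch.ModSys.realModMap h (FSch.complModMap 𝓘 g))
      (FSch.completionToX X 𝓘 0 ⁻¹ᵁ V)) = 0 := by
    refine (sbc_eta h hF hV).hom_ext fun s => ?_
    rw [app_comp]
    refine (congrArg _ (app_realModMap_gs h f V s)).trans ?_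
    refine (app_realModMap_gs h g V _).trans ?_
    have h4 : g.app V (f.app V s) = 0 := congrArg (fun β => app (R := X.sheaf) β V s) hfg
    rw [h4]
    exact map_zero (gs (φ := K920.KapSch.phi X 𝓘 h) (eta 𝓘 h H) V)
  exact LinearMap.congr_fun e m

end K28.ComplMod
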