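import Groth.Agent.S3858
import Groth.Agent.FCompl.K28.AdicSq

/-!
# Graph of a morphism of systems
-/

set_option autoImplicit false
universe u

open CategoryTheory CategoryTheory.Limits AlgebraicGeometry

namespace K28.Graph

variable {𝔛 𝔜 𝔖 : FSch.Sys.{u}}

lemma isAdicHom_pullbackFst (f : 𝔛 ⟶ 𝔖) (g : 𝔜 ⟶ 𝔖)
    (hg : FSch.IsAdicHom g) : FSch.IsAdicHom (FSch.pullbackFst f g) := by
  intro n
  have h1 : IsPullback ((FSch.pullbackFst f g : FSch.Hom _ _).app n)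
      ((FSch.pullbackSnd f g : FSch.Hom _ _).app n ≫ 𝔜.ι n) ((f : FSch.Hom 𝔛 𝔖).app n ≫ 𝔖.ι n)
      ((g : FSch.Hom 𝔜 𝔖).app (n + 1)) :=
    (IsPullback.of_hasPullback ((f : FSch.Hom 𝔛 𝔖).app n) ((g : FSch.Hom 𝔜 𝔖).app n)).paste_vert (hg n).flip
  have h2 : IsPullback ((FSch.pullbackFst f g : FSch.Hom _ _).app (n + 1))
      ((FSch.pullbackSnd f g : FSch.Hom _ _).app (n + 1)) ((f : FSch.Hom 𝔛 𝔖).app (n + 1))
      ((g : FSch.Hom 𝔜 𝔖).app (n + 1)) :=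
    IsPullback.of_hasPullback ((f : FSch.Hom 𝔛 𝔖).app (n + 1)) ((g : FSch.Hom 𝔜 𝔖).app (n + 1))
  rw [(FSch.pullbackSnd f g : FSch.Hom _ _).comm n, (f : FSch.Hom 𝔛 𝔖).comm n] at h1
  exact (h1.flip.of_right ((FSch.pullbackFst f g : FSch.Hom _ _).comm n).symm h2.flip)

/-- Left cancellation for adic morphisms: if `g` and `f ≫ g` are adic, so is `f`. -/
lemma isAdicHom_of_comp (f : 𝔛 ⟶ 𝔜) (g : 𝔜 ⟶ 𝔖) (hg : FSch.IsAdicHom g)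
    (hfg : FSch.IsAdicHom (f ≫ g)) : FSch.IsAdicHom f := fun n =>
  IsPullback.of_bot (hfg n) ((f : FSch.Hom 𝔛 𝔜).comm n).symm (hg n)

/-- If `f ≫ g` is adic and the transition maps of the target of `f` are monomorphisms, `f` is adic. -/
lemma isAdicHom_of_comp_of_mono (f : 𝔛 ⟶ 𝔜) (g : 𝔜 ⟶ 𝔖) (h𝔛 : 𝔛.IsFormal) (h𝔜 : 𝔜.IsFormal)
    (hfg : FSch.IsAdicHom (f ≫ g)) : FSch.IsAdicHom f := by
  intro n
  have h1 : IsClosedImmersion (𝔜.ι n) := (h𝔜 n).1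
  have h2 : IsClosedImmersion (𝔛.ι n) := (h𝔛 n).1
  have w := ((f : FSch.Hom 𝔛 𝔜).comm n).symm
  refine ⟨⟨w⟩, ⟨PullbackCone.IsLimit.mk w (fun s => (hfg n).lift s.fst (s.snd ≫ (g : FSch.Hom 𝔜 𝔖).app n) ?_)
    (fun s => ?_) (fun s => ?_) (fun s m h1 h2 => ?_)⟩⟩
  · rw [FSch.comp_app, ← Category.assoc, s.condition, Category.assoc, Category.assoc,
      (g : FSch.Hom 𝔜 𝔖).comm n]
  · exact (hfg n).lift_fst _ _ _
  · rw [← cancel_mono (𝔜.ι n), Category.assoc, (f : FSch.Hom 𝔛 𝔜).comm n, IsPullback.lift_fst_assoc,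
      s.condition]
  · rw [← cancel_mono (𝔛.ι n), h1, IsPullback.lift_fst]

lemma isAdicHom_id : FSch.IsAdicHom (𝟙 𝔛) := fun n => by
  rw [FSch.id_app, FSch.id_app]
  exact IsPullback.of_vert_isIso ⟨by rw [Category.id_comp, Category.comp_id]⟩

lemma graph_fst (f : 𝔛 ⟶ 𝔜) (p : 𝔛 ⟶ 𝔖) (q : 𝔜 ⟶ 𝔖) (w : f ≫ q = p) :
    FSch.graph f p q w ≫ FSch.pullbackFst p q = 𝟙 𝔛 :=
  FSch.Hom.ext (funext fun _ => pullback.lift_fst _ _ _)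

lemma graph_snd (f : 𝔛 ⟶ 𝔜) (p : 𝔛 ⟶ 𝔖) (q : 𝔜 ⟶ 𝔖) (w : f ≫ q = p) :
    FSch.graph f p q w ≫ FSch.pullbackSnd p q = f :=
  FSch.Hom.ext (funext fun _ => pullback.lift_snd _ _ _)

lemma isAdicHom_graph (h𝔛 : 𝔛.IsFormal) (h𝔜 : 𝔜.IsFormal) (f : 𝔛 ⟶ 𝔜) (p : 𝔛 ⟶ 𝔖) (q : 𝔜 ⟶ 𝔖)
    (w : f ≫ q = p) (hpq : FSch.IsAdicHom p ∨ FSch.IsAdicHom q) :
    FSch.IsAdicHom (FSch.graph f p q w) := by
  rcases hpq with hp | hq
  · refine isAdicHom_of_comp _ (FSch.pullbackSnd p q) (Groth.Agent.S3858.isAdicHom_pullbackSnd p q hp) ?_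
    rw [graph_snd]
    refine isAdicHom_of_comp_of_mono f q h𝔛 h𝔜 ?_
    rw [w]
    exact hp
  · refine isAdicHom_of_comp _ (FSch.pullbackFst p q) (isAdicHom_pullbackFst p q hq) ?_
    rw [graph_fst]
    exact isAdicHom_id

lemma isClosedImmersion_graph_zero (f : 𝔛 ⟶ 𝔜) (p : 𝔛 ⟶ 𝔖) (q : 𝔜 ⟶ 𝔖)
    (w : f ≫ q = p) (hq : IsSeparated ((q : FSch.Hom 𝔜 𝔖).app 0)) :
    IsClosedImmersion ((FSch.graph f p q w : FSch.Hom _ _).app 0) := by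
  have h1 : IsClosedImmersion ((FSch.graph f p q w : FSch.Hom _ _).app 0 ≫
      pullback.fst ((p : FSch.Hom 𝔛 𝔖).app 0) ((q : FSch.Hom 𝔜 𝔖).app 0)) := by
    have : (FSch.graph f p q w : FSch.Hom _ _).app 0 ≫
      pullback.fst ((p : FSch.Hom 𝔛 𝔖).app 0) ((q : FSch.Hom 𝔜 𝔖).app 0) = 𝟙 _ := pullback.lift_fst _ _ _
    rw [this]
    infer_instance
  have h2 : IsSeparated (pullback.fst ((p : FSch.Hom 𝔛 𝔖).app 0) ((q : FSch.Hom 𝔜 𝔖).app 0)) :=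
    MorphismProperty.pullback_fst (P := @IsSeparated) _ _ hq
  exact @IsClosedImmersion.of_comp _ _ _ _ _ h1 h2

end K28.Graph
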