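import Groth.Agent.FCompl.K28.SBC
import Groth.Agent.VarietyB.PullSec
import Groth.Agent.CohqB.FiniteType2

/-!
# Semilinear base change for quasi-coherent modules on schemes

* `sbc_sec`: `Γ(M, U) → Γ(g^* M, V)` for affine opens `V ≤ g⁻¹ U`;
* `sbc_res`: `Γ(M, U) → Γ(M, V)` for affine opens `V ≤ U`;
* `finite_sections`.
-/

set_option autoImplicit false
set_option linter.style.haveILetI false

universe u

open CategoryTheory CategoryTheory.Limits AlgebraicGeometry TopologicalSpace Opposite
open Groth.Agent.VarietyB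

noncomputable section

namespace K28.LevelBC

theorem finite_sections {X : Scheme.{u}} {M : X.Modules} (hM : Coh.IsCoh M) {U : X.Opens} (hU : IsAffineOpen U) :
    Module.Finite Γ(X, U) Γ(M, U) := by
  have : Coh.IsQCoh M := hM.1
  exact Groth.Agent.CohqB.FiniteType2.finite_sections_of_isFT M hM.2 hU

/-- Sections of a pullback over affine opens. -/
theorem sbc_sec {X Y : Scheme.{u}} (g : Y ⟶ X) {M : X.Modules} (hM : Coh.IsQCoh M) {U : X.Opens} {V : Y.Opens}
    (e : V ≤ g ⁻¹ᵁ U) (hU : IsAffineOpen U) (hV : IsAffineOpen V) :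
    SBC (g.appLE U V e).hom (PullSec.sec g M e) :=
  SBC.of_isBaseChange' (PullSec.sec_smul g M e) (PullSec.isBaseChange_secₗ g M e hM hU hV)

instance full_pullback_id (X : Scheme.{u}) : (Scheme.Modules.pullback (𝟙 X)).Full :=
  Functor.Full.of_iso (Scheme.Modules.pullbackId X).symm

instance faithful_pullback_id (X : Scheme.{u}) : (Scheme.Modules.pullback (𝟙 X)).Faithful :=
  Functor.Faithful.of_iso (Scheme.Modules.pullbackId X).symm

theorem bijective_app {X : Scheme.{u}} {M N : X.Modules} (φ : M ⟶ N) [IsIso φ] (U : X.Opens) :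
    Function.Bijective (φ.app U) := by
  constructor
  · intro a b hab
    have h1 : ∀ c, (inv φ).app U (φ.app U c) = c := fun c => by
      change (φ ≫ inv φ).app U c = c
      rw [IsIso.hom_inv_id]
      rfl
    rw [← h1 a, ← h1 b, hab]
  · intro b
    refine ⟨(inv φ).app U b, ?_⟩
    change (inv φ ≫ φ).app U b = b
    rw [IsIso.inv_hom_id]
    rfl

/-- Restriction of sections of a quasi-coherent module to a smaller affine open. -/
theorem sbc_res {X : Scheme.{u}} {M : X.Modules} (hM : Coh.IsQCoh M) {U V : X.Opens} (hVU : V ≤ U)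
    (hU : IsAffineOpen U) (hV : IsAffineOpen V) :
    SBC (X.presheaf.map (homOfLE hVU).op).hom (M.presheaf.map (homOfLE hVU).op).hom := by
  have h1 := sbc_sec (𝟙 X) hM (U := U) (V := V) hVU hU hV
  have e1 : ((𝟙 X : X ⟶ X).appLE U V hVU).hom = (X.presheaf.map (homOfLE hVU).op).hom := by
    congr 1
  rw [e1] at h1
  have : IsIso ((Scheme.Modules.pullbackPushforwardAdjunction (𝟙 X)).unit.app M) := by
    have := (Scheme.Modules.pullbackPushforwardAdjunction (𝟙 X)).unit_isIso_of_L_fully_faithful
    infer_instance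
  let ψ := (Scheme.Modules.pullbackPushforwardAdjunction (𝟙 X)).unit.app M
  have hψ := bijective_app ψ V
  let β : Γ(M, V) →ₗ[Γ(X, V)] Γ((Scheme.Modules.pullback (𝟙 X)).obj M, V) :=
    { toFun := fun s => ψ.app V s
      map_add' := fun a b => map_add _ a b
      map_smul' := fun a s => Scheme.Modules.Hom.app_smul _ _ _ }
  have hβ : Function.Bijective β := hψ
  refine h1.of_bijective (LinearEquiv.ofBijective β hβ).symm.toLinearMap (LinearEquiv.ofBijective β hβ).symm.bijective
    fun m => ?_
  rw [LinearEquiv.coe_coe, LinearEquiv.symm_apply_eq]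
  have h2 : ψ.app V (M.presheaf.map (homOfLE hVU).op m) =
      ((Scheme.Modules.pullback (𝟙 X)).obj M).presheaf.map (homOfLE hVU).op (ψ.app U m) :=
    congr($(ψ.mapPresheaf.naturality (homOfLE hVU).op) m)
  exact h2.symm

end K28.LevelBC
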