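import Groth.Prelude.Def_FSch3
import Groth.Prelude.Def_ega3
import Groth.Agent.S3862
import Groth.Agent.S2386

/-!
# Closed immersions and isomorphisms of completions, and neighbourhoods
-/

set_option autoImplicit false
universe u

open CategoryTheory CategoryTheory.Limits AlgebraicGeometry TopologicalSpace

namespace K28.Near

lemma exists_residue_lift {X Y : Scheme.{u}} (i : X ⟶ Y) [IsClosedImmersion i] (x : X) :
    ∃ σ : Spec (Y.residueField (i x)) ⟶ X, σ ≫ i = Y.fromSpecResidueField (i x) := by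
  have h1 : Function.Surjective (i.stalkMap x).hom := i.stalkMap_surjective x
  have h2 : Function.Surjective (i.residueFieldMap x).hom := by
    intro a
    obtain ⟨b, rfl⟩ := X.residue_surjective x a
    obtain ⟨c, rfl⟩ := h1 b
    exact ⟨Y.residue (i x) c, congr($(Scheme.residue_residueFieldMap i x).hom c)⟩
  have h3 : IsIso (i.residueFieldMap x) := by
    rw [ConcreteCategory.isIso_iff_bijective]
    exact ⟨(i.residueFieldMap x).hom.injective, h2⟩
  refine ⟨inv (Spec.map (i.residueFieldMap x)) ≫ X.fromSpecResidueField x, ?_⟩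
  rw [Category.assoc, IsIso.inv_comp_eq]
  exact (Scheme.Hom.SpecMap_residueFieldMap_fromSpecResidueField i x).symm

/-- The level squares of a completed morphism are cartesian. -/
lemma isPullback_level {X Y : Scheme.{u}} (f : X ⟶ Y) (𝓘 : X.IdealSheafData) (𝓚 : Y.IdealSheafData)
    (e : 𝓘 = 𝓚.comap f) (hc : FSch.PowCompat f 𝓘 𝓚) (n : ℕ) :
    IsPullback (FSch.completionToX X 𝓘 n) ((FSch.completionMap f 𝓘 𝓚 hc : FSch.Hom _ _).app n) f
      (FSch.completionToX Y 𝓚 n) := by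
  subst e
  exact (Groth.Agent.S3862.result f 𝓚 hc).1 n

lemma powCompat_comap {X Y : Scheme.{u}} (f : X ⟶ Y) (𝓚 : Y.IdealSheafData) :
    FSch.PowCompat f (𝓚.comap f) 𝓚 := fun _ =>
  (Groth.Agent.Divis.IdealComap.comap_pow _ _ _).le

lemma range_completionToX (X : Scheme.{u}) (𝓘 : X.IdealSheafData) (n : ℕ) :
    Set.range (FSch.completionToX X 𝓘 n) = 𝓘.support := by
  change Set.range (𝓘 ^ (n + 1)).subschemeι = _
  rw [Scheme.IdealSheafData.range_subschemeι, Scheme.IdealSheafData.support_pow_succ]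

/-- Backward direction: a property stable under base change passes from a neighbourhood to the levels. -/
lemma level_of_nhd (P : MorphismProperty Scheme.{u}) [P.IsStableUnderBaseChange]
    {X Y : Scheme.{u}} (f : X ⟶ Y) (𝓘 : X.IdealSheafData) (𝓚 : Y.IdealSheafData)
    (e : 𝓘 = 𝓚.comap f) (hc : FSch.PowCompat f 𝓘 𝓚) (V : Y.Opens) (hV : (𝓚.support : Set Y) ⊆ V)
    (hP : P (f ∣_ V)) (n : ℕ) : P ((FSch.completionMap f 𝓘 𝓚 hc : FSch.Hom _ _).app n) := by
  have h1 := isPullback_level f 𝓘 𝓚 e hc n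
  have hr : Set.range (FSch.completionToX Y 𝓚 n) ⊆ Set.range V.ι := by
    rw [range_completionToX, Scheme.Opens.range_ι]
    exact hV
  let j : (FSch.completionAlong Y 𝓚).X n ⟶ V := IsOpenImmersion.lift V.ι (FSch.completionToX Y 𝓚 n) hr
  have hj : j ≫ V.ι = FSch.completionToX Y 𝓚 n := IsOpenImmersion.lift_fac _ _ _
  have h2 := (isPullback_morphismRestrict f V).flip
  have h3 : IsPullback (h2.lift (FSch.completionToX X 𝓘 n)
      ((FSch.completionMap f 𝓘 𝓚 hc : FSch.Hom _ _).app n ≫ j) (by rw [Category.assoc, hj]; exact h1.w))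
      ((FSch.completionMap f 𝓘 𝓚 hc : FSch.Hom _ _).app n) (f ∣_ V) j := by
    refine IsPullback.of_right (h₁₂ := (f ⁻¹ᵁ V).ι) (h₂₂ := V.ι) (v₁₃ := f) ?_ ?_ h2
    · rw [IsPullback.lift_fst, hj]
      exact h1
    · rw [IsPullback.lift_snd]
  exact P.of_isPullback h3 hP

/-- A base change of `f` along a point of the support of the base ideal is a base change of level zero. -/
lemma fiber_of_level_aux (P : MorphismProperty Scheme.{u}) [P.IsStableUnderBaseChange]
    {X Y Z : Scheme.{u}} (f : X ⟶ Y) (g : X ⟶ Z) (h : Y ⟶ Z) (w : f ≫ h = g) (𝓙 : Z.IdealSheafData)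
    (hc : FSch.PowCompat f (𝓙.comap g) (𝓙.comap h))
    (hP : P ((FSch.completionMap f (𝓙.comap g) (𝓙.comap h) hc : FSch.Hom _ _).app 0))
    {K Xz Yz : Scheme.{u}} (k : K ⟶ Z) (a : Xz ⟶ Yz) (xX : Xz ⟶ X) (yY : Yz ⟶ Y) (sy : Yz ⟶ K)
    (hX : IsPullback xX (a ≫ sy) g k) (hY : IsPullback yY sy h k) (ha : xX ≫ f = a ≫ yY)
    (σ : K ⟶ (FSch.completionAlong Z 𝓙).X 0) (hσ : σ ≫ FSch.completionToX Z 𝓙 0 = k) : P a := by
  have e : 𝓙.comap g = (𝓙.comap h).comap f := by rw [← w, Scheme.IdealSheafData.comap_comp]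
  have h1 : IsPullback xX a f yY := by
    refine IsPullback.of_bot (v₂₁ := sy) (v₂₂ := h) (h₃₁ := k) ?_ ha hY
    rw [w]
    exact hX
  have hY0 := isPullback_level h (𝓙.comap h) 𝓙 rfl (powCompat_comap h 𝓙) 0
  obtain ⟨τ, hτ⟩ : ∃ τ : Yz ⟶ (FSch.completionAlong Y (𝓙.comap h)).X 0,
      τ ≫ FSch.completionToX Y (𝓙.comap h) 0 = yY :=
    ⟨hY0.lift yY (sy ≫ σ) (by rw [Category.assoc, hσ]; exact hY.w), hY0.lift_fst _ _ _⟩
  have h2 := isPullback_level f (𝓙.comap g) (𝓙.comap h) e hc 0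
  have h3 : IsPullback (h2.lift xX (a ≫ τ) (by rw [Category.assoc, hτ]; exact h1.w)) a
      ((FSch.completionMap f (𝓙.comap g) (𝓙.comap h) hc : FSch.Hom _ _).app 0) τ := by
    refine IsPullback.of_right (h₁₂ := FSch.completionToX X (𝓙.comap g) 0)
      (h₂₂ := FSch.completionToX Y (𝓙.comap h) 0) (v₁₃ := f) ?_ ?_ h2
    · rw [IsPullback.lift_fst, hτ]
      exact h1
    · rw [IsPullback.lift_snd]
  exact P.of_isPullback h3 hP

/-- The fibre map over a point of the support is a base change of the level zero map. -/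
lemma fiberMapOver_of_level (P : MorphismProperty Scheme.{u}) [P.IsStableUnderBaseChange]
    {X Y Z : Scheme.{u}} (f : X ⟶ Y) (g : X ⟶ Z) (h : Y ⟶ Z) (w : f ≫ h = g) (𝓙 : Z.IdealSheafData)
    (hc : FSch.PowCompat f (𝓙.comap g) (𝓙.comap h)) (z : Z) (hz : z ∈ 𝓙.support)
    (hP : P ((FSch.completionMap f (𝓙.comap g) (𝓙.comap h) hc : FSch.Hom _ _).app 0)) :
    P (CohIII.fiberMapOver f g h w z) := by
  have hz' : z ∈ Set.range (FSch.completionToX Z 𝓙 0) := by
    rw [range_completionToX]; exact hz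
  obtain ⟨z₀, rfl⟩ := hz'
  have hci : IsClosedImmersion (FSch.completionToX Z 𝓙 0) :=
    inferInstanceAs (IsClosedImmersion (𝓙 ^ (0 + 1)).subschemeι)
  obtain ⟨σ, hσ⟩ := exists_residue_lift (FSch.completionToX Z 𝓙 0) z₀
  refine fiber_of_level_aux P f g h w 𝓙 hc hP
    (Z.fromSpecResidueField ((FSch.completionToX Z 𝓙 0) z₀))
    (CohIII.fiberMapOver f g h w ((FSch.completionToX Z 𝓙 0) z₀))
    (pullback.fst g (Z.fromSpecResidueField ((FSch.completionToX Z 𝓙 0) z₀)))
    (pullback.fst h (Z.fromSpecResidueField ((FSch.completionToX Z 𝓙 0) z₀)))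
    (pullback.snd h (Z.fromSpecResidueField ((FSch.completionToX Z 𝓙 0) z₀))) ?_
    (IsPullback.of_hasPullback _ _) (pullback.lift_fst _ _ _).symm σ hσ
  have h1 : CohIII.fiberMapOver f g h w ((FSch.completionToX Z 𝓙 0) z₀) ≫
      pullback.snd h (Z.fromSpecResidueField ((FSch.completionToX Z 𝓙 0) z₀)) =
      pullback.snd g (Z.fromSpecResidueField ((FSch.completionToX Z 𝓙 0) z₀)) :=
    (pullback.lift_snd _ _ _).trans (Category.comp_id _)
  exact h1 ▸ IsPullback.of_hasPullback g (Z.fromSpecResidueField ((FSch.completionToX Z 𝓙 0) z₀))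

end K28.Near
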