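import Groth.Agent.FCompl.K28.Near
import Groth.Agent.S2386
import Mathlib.RingTheory.Filtration
import Mathlib.AlgebraicGeometry.Morphisms.Proper
import Mathlib.AlgebraicGeometry.Noetherian

/-!
# From levels of completions to neighbourhoods: closed immersions and isomorphisms
-/

set_option autoImplicit false
universe u

open CategoryTheory CategoryTheory.Limits AlgebraicGeometry TopologicalSpace

namespace K28.NearIso

open K28.Near

/-- Properties local at the target over a union of opens. -/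
lemma restrict_iSup {P : MorphismProperty Scheme.{u}} [IsZariskiLocalAtTarget P]
    {X Y : Scheme.{u}} (y : Y ⟶ X) {ι : Type*} (W : ι → X.Opens) (h : ∀ i, P (y ∣_ W i)) :
    P (y ∣_ (⨆ i, W i)) := by
  refine IsZariskiLocalAtTarget.of_iSup_eq_top (fun i => (⨆ i, W i).ι ⁻¹ᵁ (W i)) ?_ fun i => ?_
  · rw [eq_top_iff]
    rintro ⟨x, hx⟩ _
    obtain ⟨i, hi⟩ := TopologicalSpace.Opens.mem_iSup.1 hx
    exact TopologicalSpace.Opens.mem_iSup.2 ⟨i, hi⟩
  · have e1 := morphismRestrictRestrict y (⨆ i, W i) ((⨆ i, W i).ι ⁻¹ᵁ (W i))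
    have e2 : (⨆ i, W i).ι ''ᵁ ((⨆ i, W i).ι ⁻¹ᵁ (W i)) = W i := by
      rw [Scheme.Hom.image_preimage_eq_opensRange_inf, Scheme.Opens.opensRange_ι]
      exact inf_eq_right.2 (le_iSup W i)
    refine (P.arrow_mk_iso_iff (e1 ≪≫ morphismRestrictEq y e2)).2 (h i)

lemma restrict_le {P : MorphismProperty Scheme.{u}} [P.IsStableUnderBaseChange]
    {X Y : Scheme.{u}} (y : Y ⟶ X) {W W' : X.Opens} (h : W' ≤ W) (hP : P (y ∣_ W)) : P (y ∣_ W') := by
  have h1 : IsPullback (Y.homOfLE (show y ⁻¹ᵁ W' ≤ y ⁻¹ᵁ W from fun _ hx => h hx)) (y ∣_ W') (y ∣_ W)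
      (X.homOfLE h) := by
    refine IsPullback.of_right (h₁₂ := (y ⁻¹ᵁ W).ι) (h₂₂ := W.ι) (v₁₃ := y) ?_ ?_
      (isPullback_morphismRestrict y W).flip
    · rw [Scheme.homOfLE_ι, Scheme.homOfLE_ι]
      exact (isPullback_morphismRestrict y W').flip
    · rw [← cancel_mono W.ι]
      simp
  exact P.of_isPullback h1 hP

/-- Krull: an ideal contained in all powers of `I` is killed by an element of `1 + I`. -/
lemma exists_mul_eq_zero {A : Type*} [CommRing A] [IsNoetherianRing A] (I K : Ideal A)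
    (h : ∀ n : ℕ, K ≤ I ^ (n + 1)) : ∃ s : A, 1 - s ∈ I ∧ ∀ x ∈ K, s * x = 0 := by
  have h1 : ∀ x ∈ K, ∃ s : A, 1 - s ∈ I ∧ s * x = 0 := by
    intro x hx
    have h2 : x ∈ (⨅ i : ℕ, I ^ i • ⊤ : Submodule A A) := by
      rw [Submodule.mem_iInf]
      intro i
      rw [smul_eq_mul, Ideal.mul_top]
      exact Ideal.pow_le_pow_right (Nat.le_succ i) (h i hx)
    obtain ⟨r, hr⟩ := (Ideal.mem_iInf_smul_pow_eq_bot_iff I x).1 h2
    refine ⟨1 - r, by simp, ?_⟩
    rw [sub_mul, one_mul, ← smul_eq_mul, hr, sub_self]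
  obtain ⟨S, hS⟩ := IsNoetherian.noetherian K
  have h3 : ∀ T : Finset A, (∀ x ∈ T, x ∈ K) → ∃ s : A, 1 - s ∈ I ∧ ∀ x ∈ T, s * x = 0 := by
    classical
    intro T
    induction T using Finset.induction_on with
    | empty => intro _; exact ⟨1, by simp, by simp⟩
    | insert a T _ ih =>
      intro hT
      obtain ⟨s, hs, hs'⟩ := ih fun x hx => hT x (Finset.mem_insert_of_mem hx)
      obtain ⟨t, ht, ht'⟩ := h1 a (hT a (Finset.mem_insert_self a T))
      refine ⟨s * t, ?_, fun x hx => ?_⟩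
      · have e : 1 - s * t = (1 - s) + s * (1 - t) := by ring
        rw [e]
        exact I.add_mem hs (I.mul_mem_left _ ht)
      · rcases Finset.mem_insert.1 hx with rfl | hx
        · rw [mul_assoc, ht', mul_zero]
        · rw [mul_comm s t, mul_assoc, hs' x hx, mul_zero]
  obtain ⟨s, hs, hs'⟩ := h3 S fun x hx => by
    rw [← hS]; exact Submodule.subset_span hx
  refine ⟨s, hs, fun x hx => ?_⟩
  rw [← hS] at hx
  refine Submodule.span_induction (p := fun x _ => s * x = 0) hs' (mul_zero s)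
    (fun x y _ _ h1 h2 => by rw [mul_add, h1, h2, add_zero])
    (fun a x _ h1 => by rw [smul_eq_mul, mul_left_comm, h1, mul_zero]) hx

/-- If a quasi-compact morphism is a closed immersion near a point of the support and all its levels are
isomorphisms, it is an isomorphism near that point. -/
lemma exists_isIso_near {X Y : Scheme.{u}} [IsLocallyNoetherian Y] (f : X ⟶ Y) [QuasiCompact f]
    (𝓘 : X.IdealSheafData) (𝓚 : Y.IdealSheafData) (e : 𝓘 = 𝓚.comap f) (hc : FSch.PowCompat f 𝓘 𝓚)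
    (hiso : ∀ n : ℕ, IsIso ((FSch.completionMap f 𝓘 𝓚 hc : FSch.Hom _ _).app n))
    (W : Y.Opens) (hW : IsClosedImmersion (f ∣_ W)) (y : Y) (hy : y ∈ W) (hy' : y ∈ 𝓚.support) :
    ∃ V : Y.Opens, y ∈ V ∧ IsIso (f ∣_ V) := by
  obtain ⟨_, ⟨U, hU, rfl⟩, hyU, hUW⟩ := Y.isBasis_affineOpens.exists_subset_of_mem_open hy W.2
  let U' : Y.affineOpens := ⟨U, hU⟩
  have hN : IsNoetherianRing Γ(Y, U) := IsLocallyNoetherian.component_noetherian U'
  have h1 : ∀ n : ℕ, f.ker ≤ 𝓚 ^ (n + 1) := by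
    intro n
    have h2 := (isPullback_level f 𝓘 𝓚 e hc n).w
    have h3 := hiso n
    have h4 : FSch.completionToX Y 𝓚 n =
        (inv ((FSch.completionMap f 𝓘 𝓚 hc : FSch.Hom _ _).app n) ≫ FSch.completionToX X 𝓘 n) ≫ f := by
      rw [Category.assoc, h2, IsIso.inv_hom_id_assoc]
    have h5 : (FSch.completionToX Y 𝓚 n).ker = 𝓚 ^ (n + 1) := (𝓚 ^ (n + 1)).ker_subschemeι
    rw [← h5, h4]
    exact Scheme.Hom.le_ker_comp _ _
  have h2 : ∀ n : ℕ, f.ker.ideal U' ≤ (𝓚.ideal U') ^ (n + 1) := by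
    intro n
    have h3 := h1 n U'
    rw [Scheme.IdealSheafData.ideal_pow, Pi.pow_apply] at h3
    exact h3
  obtain ⟨s, hs, hs'⟩ := exists_mul_eq_zero (𝓚.ideal U') (f.ker.ideal U') h2
  have hys : y ∈ Y.basicOpen s := by
    by_contra hcon
    have h3 := (Scheme.IdealSheafData.mem_support_iff_of_mem (U := U') hyU).1 hy'
    rw [Scheme.mem_zeroLocus_iff] at h3
    have h4 : IsUnit (Y.presheaf.germ U y hyU (1 - s)) := by
      have h5 : ¬ IsUnit (Y.presheaf.germ U y hyU s) := by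
        rwa [← Scheme.mem_basicOpen Y s y hyU]
      rw [map_sub, map_one]
      by_contra h6
      have h7 := (IsLocalRing.mem_maximalIdeal _).2 h5
      have h8 := (IsLocalRing.mem_maximalIdeal _).2 h6
      have h9 := Ideal.add_mem _ h7 h8
      rw [add_sub_cancel] at h9
      exact (Ideal.ne_top_iff_one _).1 (IsLocalRing.maximalIdeal.isMaximal _).ne_top h9
    exact h3 _ hs ((Scheme.mem_basicOpen Y (1 - s) y hyU).2 h4)
  refine ⟨Y.basicOpen s, hys, ?_⟩
  have hV : IsAffineOpen (Y.basicOpen s) := hU.basicOpen s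
  have hVW : Y.basicOpen s ≤ W := (Y.basicOpen_le s).trans hUW
  have hci : IsClosedImmersion (f ∣_ Y.basicOpen s) :=
    restrict_le (P := @IsClosedImmersion) f hVW hW
  have h3 : f.ker.ideal (Y.affineBasicOpen (U := U') s) = ⊥ := by
    have key : ∀ x ∈ f.ker.ideal U', (Y.presheaf.map (homOfLE <| Y.basicOpen_le s).op).hom x =
        (0 : Γ(Y, Y.basicOpen s)) := by
      intro x hx
      have h4 : IsUnit ((Y.presheaf.map (homOfLE <| Y.basicOpen_le s).op).hom s) :=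
        RingedSpace.isUnit_res_basicOpen _ s
      apply h4.mul_left_cancel
      rw [← map_mul, hs' x hx, map_zero, mul_zero]
    rw [← f.ker.map_ideal_basicOpen U' s, eq_bot_iff]
    exact Ideal.map_le_iff_le_comap.2 fun x hx => (Ideal.mem_bot).2 (key x hx)
  have h4 : Function.Injective (f.app (Y.basicOpen s)).hom := by
    rw [injective_iff_map_eq_zero]
    intro x hx
    have h5 : x ∈ f.ker.ideal (Y.affineBasicOpen (U := U') s) := by
      rw [Scheme.Hom.ker_apply]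
      exact hx
    rw [h3] at h5
    exact h5
  have : IsAffine (Y.basicOpen s) := hV
  apply IsClosedImmersion.isIso_of_injective_of_isAffine
  rw [morphismRestrict_appTop]
  have h5 : Function.Injective (f.app ((Y.basicOpen s).ι ''ᵁ ⊤)) := by
    have h6 : (Y.basicOpen s).ι ''ᵁ ⊤ = Y.basicOpen s := Scheme.Opens.ι_image_top _
    rw [h6]
    exact h4
  have h7 : IsIso (X.presheaf.map (eqToHom (image_morphismRestrict_preimage f (Y.basicOpen s) ⊤)).op) :=
    inferInstance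
  have h8 := ((ConcreteCategory.isIso_iff_bijective _).1 h7).1
  exact h8.comp h5

variable {X Y Z : Scheme.{u}} [IsLocallyNoetherian Z]
    (g : X ⟶ Z) (h : Y ⟶ Z) [IsProper g] [IsProper h] (f : X ⟶ Y) (w : f ≫ h = g)
    (𝓙 : Z.IdealSheafData) (hc : FSch.PowCompat f (𝓙.comap g) (𝓙.comap h))

include w in
lemma closedImmersion_near
    (H : IsClosedImmersion ((FSch.completionMap f (𝓙.comap g) (𝓙.comap h) hc : FSch.Hom _ _).app 0)) :
    ∃ U : Z.Opens, (𝓙.support : Set Z) ⊆ U ∧ IsClosedImmersion (f ∣_ h ⁻¹ᵁ U) := by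
  have h1 : ∀ z : 𝓙.support, ∃ U : Z.Opens, z.1 ∈ U ∧ IsClosedImmersion (f ∣_ (h ⁻¹ᵁ U)) := by
    intro z
    refine (Groth.Agent.S2386.result f g h w z.1).2 ?_
    exact fiberMapOver_of_level @IsClosedImmersion f g h w 𝓙 hc z.1 z.2 H
  choose U hU hU' using h1
  refine ⟨⨆ z, U z, fun z hz => Opens.mem_iSup.2 ⟨⟨z, hz⟩, hU ⟨z, hz⟩⟩, ?_⟩
  have h2 := restrict_iSup (P := @IsClosedImmersion) f (fun z => h ⁻¹ᵁ U z) hU'
  have h3 : h ⁻¹ᵁ (⨆ z, U z) = ⨆ z, h ⁻¹ᵁ U z := by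
    ext x
    simp
  rw [h3]
  exact h2

omit [IsLocallyNoetherian Z] in
lemma exists_preimage_le (V : Y.Opens) (hV : ∀ y : Y, h y ∈ 𝓙.support → y ∈ V) :
    ∃ U : Z.Opens, (𝓙.support : Set Z) ⊆ U ∧ h ⁻¹ᵁ U ≤ V := by
  have h1 : IsClosed (h '' (V : Set Y)ᶜ) := h.isClosedMap _ V.2.isClosed_compl
  refine ⟨⟨(h '' (V : Set Y)ᶜ)ᶜ, h1.isOpen_compl⟩, ?_, ?_⟩
  · rintro z hz ⟨y, hy, rfl⟩
    exact hy (hV y hz)
  · intro y hy
    by_contra hcon
    exact hy ⟨y, hcon, rfl⟩

include w in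
lemma isIso_near
    (H : ∀ n : ℕ, IsIso ((FSch.completionMap f (𝓙.comap g) (𝓙.comap h) hc : FSch.Hom _ _).app n)) :
    ∃ U : Z.Opens, (𝓙.support : Set Z) ⊆ U ∧ IsIso (f ∣_ h ⁻¹ᵁ U) := by
  have h0 := H 0
  obtain ⟨U, hU, hU'⟩ := closedImmersion_near g h f w 𝓙 hc inferInstance
  have hN : IsLocallyNoetherian Y := LocallyOfFiniteType.isLocallyNoetherian h
  have hp : IsProper (f ≫ h) := by rw [w]; infer_instance
  have hp' : IsProper f := IsProper.of_comp f h
  have e : 𝓙.comap g = (𝓙.comap h).comap f := by rw [← w, Scheme.IdealSheafData.comap_comp]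
  have h1 : ∀ y : (𝓙.comap h).support, ∃ V : Y.Opens, y.1 ∈ V ∧ IsIso (f ∣_ V) := by
    intro y
    refine exists_isIso_near f _ _ e hc H (h ⁻¹ᵁ U) hU' y.1 ?_ y.2
    apply hU
    have h2 : (𝓙.comap h).support = 𝓙.support.preimage h.continuous :=
      Scheme.IdealSheafData.support_comap _ _
    exact h2.le y.2
  choose V hV hV' using h1
  have h2 : IsIso (f ∣_ ⨆ y, V y) :=
    restrict_iSup (P := MorphismProperty.isomorphisms Scheme.{u}) f V hV'
  obtain ⟨U', h3, h4⟩ := exists_preimage_le h 𝓙 (⨆ y, V y) (fun y hy => by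
    have h5 : y ∈ (𝓙.comap h).support := by
      rw [Scheme.IdealSheafData.support_comap]
      exact hy
    exact Opens.mem_iSup.2 ⟨⟨y, h5⟩, hV ⟨y, h5⟩⟩)
  exact ⟨U', h3, restrict_le (P := MorphismProperty.isomorphisms Scheme.{u}) f h4 h2⟩

end K28.NearIso
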