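import Groth.Agent.Krr.H490.LocBasisPull
import Groth.Agent.Sga2lef.H81.LocFree
import Groth.Prelude.Def_FSch3
import Mathlib.RingTheory.AdicCompletion.Basic
import Mathlib.AlgebraicGeometry.Morphisms.Proper

/-!
# Coherent modules whose restrictions to all thickenings are locally free of rank `r`
-/

set_option autoImplicit false
universe u
open CategoryTheory CategoryTheory.Limits AlgebraicGeometry

namespace K28.RankSpread

open Groth.Agent Groth.Agent.Sga67.Sec Groth.Agent.Sga67.LocBasis Groth.Agent.Krr.H490.LocBasisPull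

/-- Two local bases around a point have the same length. -/
lemma eq_of_isLocBasis {X : Scheme.{u}} {M : X.Modules} {U V : X.Opens} {m n : ℕ} {b : Fin m → Sec M U}
    {c : Fin n → Sec M V} (hb : IsLocBasis b) (hc : IsLocBasis c) (x : X) (hU : x ∈ U) (hV : x ∈ V) :
    m = n := by
  have e := (stalkBasis hb x hU).indexEquiv (stalkBasis hc x hV)
  simpa using Fintype.card_congr e

/-- A coherent module whose restrictions to all thickenings are locally free of rank `r` is free of rank `r`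
near every point of the closed subset. -/
lemma exists_nhd {X : Scheme.{u}} [IsLocallyNoetherian X] (𝓘 : X.IdealSheafData) (F : X.Modules)
    (hF : Coh.IsCoh F) (r : ℕ)
    (h : ∀ n, FlatMod.IsFinLocFreeOfRank r ((Scheme.Modules.pullback (FSch.completionToX X 𝓘 n)).obj F))
    (x : X) (hx : x ∈ 𝓘.support) :
    ∃ U : X.Opens, x ∈ U ∧ Nonempty (F.restrict U.ι ≅ FlatMod.freeMod (↑U) r) := by
  have h' : ∀ n, FlatMod.IsFinLocFree ((Scheme.Modules.pullback (FSch.completionToX X 𝓘 n)).obj F) :=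
    fun n z => by
      obtain ⟨U, hU, e⟩ := h n z
      exact ⟨U, r, hU, e⟩
  have hfree := Sga2lef.H81.LocFree.free_stalk 𝓘 F hF h' x hx
  obtain ⟨U, n, hxU, hU⟩ := Sga2lef.H81.LocFree.exists_free_nhd F hF x hfree
  have hx' : x ∈ Set.range (FSch.completionToX X 𝓘 0) := by
    change x ∈ Set.range (𝓘 ^ (0 + 1)).subschemeι
    rw [Scheme.IdealSheafData.range_subschemeι, Scheme.IdealSheafData.support_pow_succ]
    exact hx
  obtain ⟨z, rfl⟩ := hx'
  obtain ⟨b, hb⟩ := nonempty_restrict_iso_iff.mp hU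
  have hb' := isLocBasis_psec (FSch.completionToX X 𝓘 0) F (le_refl (FSch.completionToX X 𝓘 0 ⁻¹ᵁ U)) hb
  obtain ⟨V, hzV, hV⟩ := h 0 z
  obtain ⟨c, hc⟩ := nonempty_restrict_iso_iff.mp hV
  have hnr : n = r := eq_of_isLocBasis hb' hc z hxU hzV
  subst hnr
  exact ⟨U, hxU, hU⟩

/-- An open containing `f⁻¹(V(I))` is everything, for `f` closed over `Spec A` and `I` in the Jacobson radical. -/
lemma eq_top_of_le {A : Type u} [CommRing A] (I : Ideal A) (hI : I ≤ (⊥ : Ideal A).jacobson)
    {X : Scheme.{u}} (f : X ⟶ Spec (CommRingCat.of A)) (hf : IsClosedMap f) (V : X.Opens)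
    (hV : ∀ x : X, I ≤ (f x).asIdeal → x ∈ V) : V = ⊤ := by
  rw [eq_top_iff]
  intro x _
  by_contra hx
  have h1 : IsClosed (f '' (V : Set X)ᶜ) := hf _ V.2.isClosed_compl
  obtain ⟨m, hm, hle⟩ := Ideal.exists_le_maximal (f x).asIdeal (f x).2.ne_top
  let y : PrimeSpectrum A := ⟨m, hm.isPrime⟩
  have h2 : (f x : PrimeSpectrum A) ⤳ y := (PrimeSpectrum.le_iff_specializes _ _).1 hle
  have h3 : (y : PrimeSpectrum A) ∈ f '' (V : Set X)ᶜ := h2.mem_closed h1 ⟨x, hx, rfl⟩
  obtain ⟨x', hx', e⟩ := h3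
  apply hx'
  apply hV
  have e' : (f x').asIdeal = m := congrArg PrimeSpectrum.asIdeal e
  rw [e']
  exact hI.trans (sInf_le ⟨bot_le, hm⟩)

end K28.RankSpread
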