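import Groth.Agent.FCompl.K28.RealSec
import Groth.Agent.FCompl.K28.LevelBC
import Groth.Agent.FCompl.K28.BasisIso
import Groth.Agent.FTors.K919.AffFlat
import Groth.Agent.S2291

/-!
# Sections of the module of a coherent system over affine opens

`𝔛` a locally Noetherian formal system, `𝔐` a system of coherent modules, `U` an open with affine smallest level,
`A = O_𝔛(U)`, `I = IS 𝔛 _ U = ker (A → O_{X 0}(U))`.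
* `sbc_tS`: `Γ(F (k+1), U) → Γ(F k, U)` is a base change along `O_{X (k+1)}(U) → O_{X k}(U)`;
* `main`: `Γ(U, realMod)` is `I`-adically complete, the projection to the level `k` is surjective with kernel
  `I ^ (k + 1) • ⊤`, and it is a finite `A`-module (`finite_sec`);
* `sbc_ps`: `ps k` is a base change along `A → O_{X k}(U)`.
-/

set_option autoImplicit false
set_option linter.style.haveILetI false

universe u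

open CategoryTheory CategoryTheory.Limits AlgebraicGeometry TopologicalSpace Opposite
open K29.RSec K29.RStalk K919.AffBasic K28.RealSec K28.BasisIso
open Groth.Agent.VarietyB

noncomputable section

namespace K28.RealAff

section Rings

variable (𝔛 : FSch.Sys.{u}) (h : 𝔛.IsFormal) (U : (𝔛.X 0).Opens)

/-- The ideal `ker (O_𝔛(U) → O_{X 0}(U))`. -/
def IS : Ideal (O (𝔛.Osh h) U) := RingHom.ker (pk 𝔛 h 0 U)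

variable {𝔛 U} (h𝔛 : 𝔛.IsLocNoethFormal) (hU : IsAffineOpen (𝔛.lvU h𝔛.1 0 U))

include hU

theorem pk_surjective (k : ℕ) : Function.Surjective (pk 𝔛 h𝔛.1 k U) := pr_surjective h𝔛 hU k

theorem ker_pk (k : ℕ) : RingHom.ker (pk 𝔛 h𝔛.1 k U) = IS 𝔛 h𝔛.1 U ^ (k + 1) := ker_pr h𝔛 hU k

theorem tk_surjective (k : ℕ) : Function.Surjective (tk 𝔛 h𝔛.1 k U) := tr_surjective 𝔛 h𝔛.1 hU k

theorem isAdicComplete_O : IsAdicComplete (IS 𝔛 h𝔛.1 U) (O (𝔛.Osh h𝔛.1) U) := isAdicComplete h𝔛 hU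

theorem fg_IS : (IS 𝔛 h𝔛.1 U).FG := (K919.AffBasic.main h𝔛 hU).2.2

theorem isNoetherianRing_O : IsNoetherianRing (O (𝔛.Osh h𝔛.1) U) := isNoetherianRing_OU h𝔛 hU

end Rings

section Trans

variable {𝔛 : FSch.Sys.{u}} (h : 𝔛.IsFormal) (𝔐 : FSch.ModSys 𝔛)

theorem toPush_eq (k : ℕ) :
    𝔐.toPush k = (Scheme.Modules.pullbackPushforwardAdjunction (𝔛.ι k)).unit.app (𝔐.F (k + 1)) ≫
      (Scheme.Modules.pushforward (𝔛.ι k)).map (𝔐.e k).hom :=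
  (Scheme.Modules.pullbackPushforwardAdjunction (𝔛.ι k)).homEquiv_unit _ _ _

theorem tS_toPush (k : ℕ) (U : (𝔛.X 0).Opens) (s : Γ(𝔐.F (k + 1), 𝔛.lvU h (k + 1) U)) :
    tS 𝔛 h 𝔐.F 𝔐.toPush k U s =
      (𝔐.e k).hom.app (𝔛.lvU h k U) (PullSec.sec (𝔛.ι k) (𝔐.F (k + 1)) (𝔛.lvU_le h k U) s) := by
  rw [tS_apply, toPush_eq, PullSec.sec_apply]
  have h2 := congr($((𝔐.e k).hom.mapPresheaf.naturality (homOfLE (𝔛.lvU_le h k U)).op)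
    (((Scheme.Modules.pullbackPushforwardAdjunction (𝔛.ι k)).unit.app (𝔐.F (k + 1))).app (𝔛.lvU h (k + 1) U) s))
  exact h2.symm

theorem sbc_tS (h𝔐 : ∀ n, Coh.IsQCoh (𝔐.F n)) {U : (𝔛.X 0).Opens} (hU : IsAffineOpen (𝔛.lvU h 0 U)) (k : ℕ) :
    SBC (tk 𝔛 h k U) (tS 𝔛 h 𝔐.F 𝔐.toPush k U) := by
  have h1 := LevelBC.sbc_sec (𝔛.ι k) (h𝔐 (k + 1)) (𝔛.lvU_le h k U) (isAffineOpen_lvU 𝔛 h hU (k + 1))
    (isAffineOpen_lvU 𝔛 h hU k)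
  let β : Γ((Scheme.Modules.pullback (𝔛.ι k)).obj (𝔐.F (k + 1)), 𝔛.lvU h k U) →ₗ[Γ(𝔛.X k, 𝔛.lvU h k U)]
      Γ(𝔐.F k, 𝔛.lvU h k U) :=
    { toFun := fun s => (𝔐.e k).hom.app (𝔛.lvU h k U) s
      map_add' := fun a b => map_add _ a b
      map_smul' := fun a s => Scheme.Modules.Hom.app_smul _ _ _ }
  exact h1.of_bijective β (LevelBC.bijective_app (𝔐.e k).hom _) fun m => (tS_toPush h 𝔐 k U m).symm

end Trans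

section Main

variable {𝔛 : FSch.Sys.{u}} (h𝔛 : 𝔛.IsLocNoethFormal)

/-- The `A`-module `Γ(F k, lvU k U)` as sections of the direct image. -/
abbrev MS (𝔐 : FSch.ModSys 𝔛) (k : ℕ) (U : (𝔛.X 0).Opens) : Type u :=
  Sec ((FSch.levelMor 𝔛 h𝔛.1 k).push.obj (𝔐.F k)) U

/-- The transition maps of the direct images. -/
def fS (𝔐 : FSch.ModSys 𝔛) (k : ℕ) (U : (𝔛.X 0).Opens) : MS h𝔛 𝔐 (k + 1) U →ₗ[O (𝔛.Osh h𝔛.1) U] MS h𝔛 𝔐 k U :=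
  app ((FSch.levelMor 𝔛 h𝔛.1 (k + 1)).push.map (𝔐.toPush k) ≫ (FSch.pushCompare 𝔛 h𝔛.1 k).app (𝔐.F k)) U

theorem fS_apply (𝔐 : FSch.ModSys 𝔛) (k : ℕ) (U : (𝔛.X 0).Opens) (x : MS h𝔛 𝔐 (k + 1) U) :
    fS h𝔛 𝔐 k U x = toPushL 𝔛 h𝔛.1 (tS 𝔛 h𝔛.1 𝔐.F 𝔐.toPush k U (ofPushL 𝔛 h𝔛.1 x)) := rfl

variable {U : (𝔛.X 0).Opens} (hU : IsAffineOpen (𝔛.lvU h𝔛.1 0 U)) {𝔐 : FSch.ModSys 𝔛} (h𝔐 : 𝔐.IsCoh)

include hU h𝔐

theorem fS_surjective (k : ℕ) : Function.Surjective (fS h𝔛 𝔐 k U) :=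
  (sbc_tS h𝔛.1 𝔐 (fun n => (h𝔐 n).1) hU k).surjective_of_surjective (tk_surjective h𝔛 hU k)

omit h𝔐 in
/-- Ideals of a level times the sections of a level. -/
theorem mem_smul {k : ℕ} {M : (𝔛.X k).Modules} (I : Ideal (O (𝔛.Osh h𝔛.1) U)) (J : Ideal Γ(𝔛.X k, 𝔛.lvU h𝔛.1 k U))
    (hIJ : J ≤ I.map (pk 𝔛 h𝔛.1 k U)) (x : Γ(M, 𝔛.lvU h𝔛.1 k U))
    (hx : x ∈ J • (⊤ : Submodule Γ(𝔛.X k, 𝔛.lvU h𝔛.1 k U) Γ(M, 𝔛.lvU h𝔛.1 k U))) :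
    toPushL 𝔛 h𝔛.1 x ∈ I • (⊤ : Submodule (O (𝔛.Osh h𝔛.1) U) (Sec ((FSch.levelMor 𝔛 h𝔛.1 k).push.obj M) U)) := by
  have hs := pk_surjective h𝔛 hU k
  induction hx using Submodule.smul_induction_on' with
  | smul a ha m _ =>
    have h1 : a ∈ I.map (pk 𝔛 h𝔛.1 k U) := hIJ ha
    obtain ⟨b, hb, rfl⟩ := (Ideal.mem_map_iff_of_surjective _ hs).1 h1
    rw [toPushL_smul]
    exact Submodule.smul_mem_smul hb trivial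
  | add x _ y _ hx hy =>
    rw [map_add]
    exact Submodule.add_mem _ hx hy

omit h𝔐 in
/-- Powers of the ideal of definition kill the levels. -/
theorem smul_eq_zero {k : ℕ} {M : (𝔛.X k).Modules} (a : O (𝔛.Osh h𝔛.1) U)
    (ha : a ∈ IS 𝔛 h𝔛.1 U ^ (k + 1))
    (x : Sec ((FSch.levelMor 𝔛 h𝔛.1 k).push.obj M) U) : a • x = 0 := by
  rw [← ker_pk h𝔛 hU k, RingHom.mem_ker] at ha
  rw [← toPushL_ofPushL 𝔛 h𝔛.1 x, ← toPushL_smul, ha, zero_smul, map_zero]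

theorem ker_fS (k : ℕ) : LinearMap.ker (fS h𝔛 𝔐 k U) =
    IS 𝔛 h𝔛.1 U ^ (k + 1) • (⊤ : Submodule (O (𝔛.Osh h𝔛.1) U) (MS h𝔛 𝔐 (k + 1) U)) := by
  apply le_antisymm
  · intro x hx
    have h1 := (sbc_tS h𝔛.1 𝔐 (fun n => (h𝔐 n).1) hU k).mem_smul_top (tk_surjective h𝔛 hU k)
      (ofPushL 𝔛 h𝔛.1 x) hx
    refine mem_smul h𝔛 hU (IS 𝔛 h𝔛.1 U ^ (k + 1)) (RingHom.ker (tk 𝔛 h𝔛.1 k U)) ?_ _ h1
    intro a ha
    obtain ⟨b, rfl⟩ := pk_surjective h𝔛 hU (k + 1) a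
    refine Ideal.mem_map_of_mem _ ?_
    rw [← ker_pk h𝔛 hU k, RingHom.mem_ker, ← tk_pk]
    exact ha
  · rw [Submodule.smul_le]
    intro a ha x _
    rw [LinearMap.mem_ker, map_smul]
    exact smul_eq_zero h𝔛 hU a ha _

theorem main : IsAdicComplete (IS 𝔛 h𝔛.1 U) (Sec (𝔐.realMod h𝔛.1) U) ∧
    (∀ k, Function.Surjective (app (FSch.realProj 𝔛 h𝔛.1 𝔐.F 𝔐.toPush k) U) ∧
      LinearMap.ker (app (FSch.realProj 𝔛 h𝔛.1 𝔐.F 𝔐.toPush k) U) =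
        IS 𝔛 h𝔛.1 U ^ (k + 1) • (⊤ : Submodule (O (𝔛.Osh h𝔛.1) U) (Sec (𝔐.realMod h𝔛.1) U))) ∧
      Module.Finite (O (𝔛.Osh h𝔛.1) U) (Sec (𝔐.realMod h𝔛.1) U) := by
  obtain ⟨h1, h2, h3⟩ := Groth.Agent.S2291.result (O (𝔛.Osh h𝔛.1) U)
    (IS 𝔛 h𝔛.1 U) (fg_IS h𝔛 hU)
    (fun k => MS h𝔛 𝔐 k U) (fun k => fS h𝔛 𝔐 k U) (fS_surjective h𝔛 hU h𝔐) (ker_fS h𝔛 hU h𝔐)
    (Sec (𝔐.realMod h𝔛.1) U) (fun k => app (FSch.realProj 𝔛 h𝔛.1 𝔐.F 𝔐.toPush k) U)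
    (fun k => LinearMap.ext fun x => tS_ps 𝔛 h𝔛.1 𝔐.F 𝔐.toPush k U x)
    (fun x hx => sec_ext 𝔛 h𝔛.1 𝔐.F 𝔐.toPush x 0 fun k => (hx k).trans (map_zero _).symm)
    (fun y hy => sec_lift 𝔛 h𝔛.1 𝔐.F 𝔐.toPush y hy)
  refine ⟨h1, h2, h3 (isAdicComplete_O h𝔛 hU) ?_⟩
  have hf := LevelBC.finite_sections (h𝔐 0) (isAffineOpen_lvU 𝔛 h𝔛.1 hU 0)
  obtain ⟨s, hs⟩ := hf.1
  refine ⟨⟨s, ?_⟩⟩
  rw [eq_top_iff]
  intro x _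
  have hx : ofPushL 𝔛 h𝔛.1 x ∈ Submodule.span Γ(𝔛.X 0, 𝔛.lvU h𝔛.1 0 U) (s : Set Γ(𝔐.F 0, 𝔛.lvU h𝔛.1 0 U)) := by
    rw [hs]; trivial
  have key : ∀ y ∈ Submodule.span Γ(𝔛.X 0, 𝔛.lvU h𝔛.1 0 U) (s : Set Γ(𝔐.F 0, 𝔛.lvU h𝔛.1 0 U)),
      toPushL 𝔛 h𝔛.1 y ∈ Submodule.span (O (𝔛.Osh h𝔛.1) U) (show Set (MS h𝔛 𝔐 0 U) from (s : Set Γ(𝔐.F 0, 𝔛.lvU h𝔛.1 0 U))) := by
    intro y hy
    induction hy using Submodule.span_induction with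
    | mem y hy => exact Submodule.subset_span hy
    | zero => rw [map_zero]; exact Submodule.zero_mem _
    | add y y' _ _ h h' => rw [map_add]; exact Submodule.add_mem _ h h'
    | smul a y _ h =>
      obtain ⟨b, rfl⟩ := pk_surjective h𝔛 hU 0 a
      rw [toPushL_smul]
      exact Submodule.smul_mem _ b h
  exact key _ hx

theorem finite_sec : Module.Finite (O (𝔛.Osh h𝔛.1) U) (Sec (𝔐.realMod h𝔛.1) U) := (main h𝔛 hU h𝔐).2.2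

theorem ps_surjective (k : ℕ) : Function.Surjective (ps 𝔛 h𝔛.1 𝔐.F 𝔐.toPush k U) := ((main h𝔛 hU h𝔐).2.1 k).1

theorem mem_smul_of_ps (k : ℕ) (x : Sec (𝔐.realMod h𝔛.1) U) (hx : ps 𝔛 h𝔛.1 𝔐.F 𝔐.toPush k U x = 0) :
    x ∈ IS 𝔛 h𝔛.1 U ^ (k + 1) • (⊤ : Submodule (O (𝔛.Osh h𝔛.1) U) (Sec (𝔐.realMod h𝔛.1) U)) := by
  rw [← ((main h𝔛 hU h𝔐).2.1 k).2]
  exact hx

/-- The projections to the levels are base changes. -/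
theorem sbc_ps (k : ℕ) : SBC (pk 𝔛 h𝔛.1 k U) (ps 𝔛 h𝔛.1 𝔐.F 𝔐.toPush k U) := by
  refine SBC.of_surjective (ps_smul 𝔛 h𝔛.1 𝔐.F 𝔐.toPush k U) (pk_surjective h𝔛 hU k) (ps_surjective h𝔛 hU h𝔐 k)
    fun m hm => ?_
  rw [ker_pk h𝔛 hU k]
  exact mem_smul_of_ps h𝔛 hU h𝔐 k m hm

end Main

end K28.RealAff
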