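import Groth.Agent.FCompl.K28.RealAff

/-!
# Inverse images of `realMod` to the levels

* `basis_aff`, `cofinal_gInv`: the opens with affine smallest level are a basis;
* `isIso_adj`: `u_k^* realMod → F k` is an isomorphism;
* `sbc_res`: restriction of sections of `realMod` to a smaller affine open is a base change;
* `exists_hom`, `realModMap_bijective`: morphisms of coherent systems are morphisms of `O_𝔛`-modules.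
-/

set_option autoImplicit false
set_option linter.style.haveILetI false

universe u

open CategoryTheory CategoryTheory.Limits AlgebraicGeometry TopologicalSpace Opposite
open K29.RSec K29.RStalk K29.RPull K919.AffBasic K28.RealSec K28.BasisIso K28.RealAff

noncomputable section

namespace K28.RealLevel

section Basis

variable (𝔛 : FSch.Sys.{u}) (h : 𝔛.IsFormal)

/-- The opens with affine smallest level. -/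
def Aff : Set (𝔛.X 0).Opens := {U | IsAffineOpen (𝔛.lvU h 0 U)}

theorem basis_aff : Basis (T := (𝔛.X 0).carrier) (Aff 𝔛 h) := by
  intro x V hx
  obtain ⟨_, ⟨U, hU, rfl⟩, hxU, hUV⟩ :=
    (𝔛.X 0).isBasis_affineOpens.exists_subset_of_mem_open hx V.2
  refine ⟨U, ?_, hxU, hUV⟩
  change IsAffineOpen (𝔛.lvU h 0 U)
  rw [lvU_zero]
  exact hU

theorem gInv_toX (k : ℕ) (z : 𝔛.X k) : (𝔛.toX k).base (𝔛.gInv h k z) = z :=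
  congr($(𝔛.gInv_toX_base h k) z)

theorem cofinal_gInv (k : ℕ) : Cofinal (𝔛.gInv h k) (Aff 𝔛 h) := by
  intro y V W hV hW
  have hW' : 𝔛.gInv h k y ∈ (𝔛.toX k) ⁻¹ᵁ W := by
    change (𝔛.toX k).base (𝔛.gInv h k y) ∈ W
    rw [gInv_toX]
    exact hW
  obtain ⟨U, hU, hyU, hUV⟩ := basis_aff 𝔛 h (𝔛.gInv h k y) (V ⊓ (𝔛.toX k) ⁻¹ᵁ W) ⟨hV, hW'⟩
  refine ⟨U, hU, hyU, hUV.trans inf_le_left, fun z hz => ?_⟩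
  have h1 : 𝔛.gInv h k z ∈ (𝔛.toX k) ⁻¹ᵁ W := (hUV hz).2
  change (𝔛.toX k).base (𝔛.gInv h k z) ∈ W at h1
  rw [gInv_toX] at h1
  exact h1

end Basis

section Level

variable {𝔛 : FSch.Sys.{u}} (h𝔛 : 𝔛.IsLocNoethFormal) {𝔐 : FSch.ModSys 𝔛} (h𝔐 : 𝔐.IsCoh)

include h𝔐

theorem isIso_adj (k : ℕ) :
    IsIso (((FSch.levelMor 𝔛 h𝔛.1 k).adj.homEquiv _ _).symm (FSch.realProj 𝔛 h𝔛.1 𝔐.F 𝔐.toPush k)) :=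
  isIso_lft (φ := (FSch.levelMor 𝔛 h𝔛.1 k).sharpR) (FSch.levelMor 𝔛 h𝔛.1 k).adj
    (FSch.realProj 𝔛 h𝔛.1 𝔐.F 𝔐.toPush k) (cofinal_gInv 𝔛 h𝔛.1 k) fun _ hV => sbc_ps h𝔛 hV h𝔐 k

/-- Restriction of sections to a smaller affine open is a base change. -/
theorem sbc_res {U V : (𝔛.X 0).Opens} (hVU : V ≤ U) (hU : IsAffineOpen (𝔛.lvU h𝔛.1 0 U))
    (hV : IsAffineOpen (𝔛.lvU h𝔛.1 0 V)) :
    SBC (resO (R := 𝔛.Osh h𝔛.1) hVU) (res (𝔐.realMod h𝔛.1) hVU) := by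
  have i1 := isNoetherianRing_O h𝔛 hV
  have i2 := isAdicComplete_O h𝔛 hV
  have i3 := finite_sec h𝔛 hU h𝔐
  have i4 := finite_sec h𝔛 hV h𝔐
  refine SBC.of_levels (res_smul (𝔐.realMod h𝔛.1) hVU) (IS 𝔛 h𝔛.1 V) (fun n => pk 𝔛 h𝔛.1 n V)
    (pk_surjective h𝔛 hV) (fun n => (ker_pk h𝔛 hV n).le) (fun n => ps 𝔛 h𝔛.1 𝔐.F 𝔐.toPush n V)
    (fun n => ps_smul 𝔛 h𝔛.1 𝔐.F 𝔐.toPush n V) (fun x hx => ?_) (fun n => ?_)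
  · have := mem_smul_of_ps h𝔛 hV h𝔐 0 x hx
    rwa [pow_one] at this
  · have h1 := LevelBC.sbc_res (h𝔐 n).1 (lvU_mono 𝔛 h𝔛.1 n hVU) (isAffineOpen_lvU 𝔛 h𝔛.1 hU n)
      (isAffineOpen_lvU 𝔛 h𝔛.1 hV n)
    have h2 := (sbc_ps h𝔛 hU h𝔐 n).comp h1
    have e1 : ((𝔛.X n).presheaf.map (homOfLE (lvU_mono 𝔛 h𝔛.1 n hVU)).op).hom.comp (pk 𝔛 h𝔛.1 n U) =
        (pk 𝔛 h𝔛.1 n V).comp (resO hVU) := RingHom.ext fun a => (pk_res 𝔛 h𝔛.1 n hVU a).symm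
    have e2 : ((𝔐.F n).presheaf.map (homOfLE (lvU_mono 𝔛 h𝔛.1 n hVU)).op).hom.comp
        (ps 𝔛 h𝔛.1 𝔐.F 𝔐.toPush n U) = (ps 𝔛 h𝔛.1 𝔐.F 𝔐.toPush n V).comp (res (𝔐.realMod h𝔛.1) hVU) :=
      AddMonoidHom.ext fun a => (ps_res 𝔛 h𝔛.1 𝔐.F 𝔐.toPush n hVU a).symm
    rw [e1, e2] at h2
    exact h2

end Level

section Basis2

variable {𝔛 : FSch.Sys.{u}} (h : 𝔛.IsFormal)

theorem lvU_toX (k : ℕ) (W : (𝔛.X k).Opens) : 𝔛.lvU h k ((𝔛.toX k) ⁻¹ᵁ W) = W := by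
  ext z
  change (𝔛.toX k).base (𝔛.gInv h k z) ∈ W ↔ z ∈ W
  rw [gInv_toX]

/-- Morphisms of modules on a level are determined on the opens coming from affine opens of the smallest level. -/
theorem level_hom_ext {k : ℕ} {M N : (𝔛.X k).Modules} {φ ψ : M ⟶ N}
    (hφ : ∀ U ∈ Aff 𝔛 h, ∀ s, φ.app (𝔛.lvU h k U) s = ψ.app (𝔛.lvU h k U) s) : φ = ψ := by
  refine K29.RSec.hom_ext (R := (𝔛.X k).sheaf) fun W s => eq_of_forall_nhds (R := (𝔛.X k).sheaf) N _ _ fun y hy => ?_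
  obtain ⟨U, hU, hyU, -, hUW⟩ := cofinal_gInv 𝔛 h k y ⊤ W trivial hy
  refine ⟨𝔛.lvU h k U, hyU, hUW, ?_⟩
  rw [← app_res, ← app_res]
  exact hφ U hU _

end Basis2

section Hom

variable {𝔛 : FSch.Sys.{u}} (h𝔛 : 𝔛.IsLocNoethFormal) {𝔐 𝔑 : FSch.ModSys 𝔛} (h𝔐 : 𝔐.IsCoh)

include h𝔐 in
theorem exists_levelHom (α : 𝔐.realMod h𝔛.1 ⟶ 𝔑.realMod h𝔛.1) (k : ℕ) :
    ∃ φ : 𝔐.F k ⟶ 𝔑.F k, FSch.realProj 𝔛 h𝔛.1 𝔐.F 𝔐.toPush k ≫ (FSch.levelMor 𝔛 h𝔛.1 k).push.map φ =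
      α ≫ FSch.realProj 𝔛 h𝔛.1 𝔑.F 𝔑.toPush k := by
  have := isIso_adj h𝔛 h𝔐 k
  refine ⟨(inv (((FSch.levelMor 𝔛 h𝔛.1 k).adj.homEquiv _ _).symm (FSch.realProj 𝔛 h𝔛.1 𝔐.F 𝔐.toPush k)) ≫
    ((FSch.levelMor 𝔛 h𝔛.1 k).adj.homEquiv _ _).symm (α ≫ FSch.realProj 𝔛 h𝔛.1 𝔑.F 𝔑.toPush k) :
      @Quiver.Hom (ModSite.Mod (𝔛.X k).sheaf) _ (𝔐.F k) (𝔑.F k)), ?_⟩
  apply ((FSch.levelMor 𝔛 h𝔛.1 k).adj.homEquiv _ _).symm.injective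
  refine (Adjunction.homEquiv_naturality_right_symm _ _ _).trans ?_
  exact IsIso.hom_inv_id_assoc _ _

/-- The morphism on the level `k` of a morphism of `O_𝔛`-modules. -/
def levelHom (α : 𝔐.realMod h𝔛.1 ⟶ 𝔑.realMod h𝔛.1) (k : ℕ) : 𝔐.F k ⟶ 𝔑.F k :=
  (exists_levelHom h𝔛 h𝔐 α k).choose

theorem realProj_levelHom (α : 𝔐.realMod h𝔛.1 ⟶ 𝔑.realMod h𝔛.1) (k : ℕ) :
    FSch.realProj 𝔛 h𝔛.1 𝔐.F 𝔐.toPush k ≫ (FSch.levelMor 𝔛 h𝔛.1 k).push.map (levelHom h𝔛 h𝔐 α k) =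
      α ≫ FSch.realProj 𝔛 h𝔛.1 𝔑.F 𝔑.toPush k := (exists_levelHom h𝔛 h𝔐 α k).choose_spec

theorem ps_levelHom (α : 𝔐.realMod h𝔛.1 ⟶ 𝔑.realMod h𝔛.1) (k : ℕ) (U : (𝔛.X 0).Opens)
    (s : Sec (𝔐.realMod h𝔛.1) U) :
    (levelHom h𝔛 h𝔐 α k).app (𝔛.lvU h𝔛.1 k U) (ps 𝔛 h𝔛.1 𝔐.F 𝔐.toPush k U s) =
      ps 𝔛 h𝔛.1 𝔑.F 𝔑.toPush k U (app α U s) :=
  congrArg (fun β => ofPushL 𝔛 h𝔛.1 (app β U s)) (realProj_levelHom h𝔛 h𝔐 α k)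

theorem tS_levelHom (α : 𝔐.realMod h𝔛.1 ⟶ 𝔑.realMod h𝔛.1) (k : ℕ) {U : (𝔛.X 0).Opens}
    (hU : IsAffineOpen (𝔛.lvU h𝔛.1 0 U)) (s : Γ(𝔐.F (k + 1), 𝔛.lvU h𝔛.1 (k + 1) U)) :
    (levelHom h𝔛 h𝔐 α k).app (𝔛.lvU h𝔛.1 k U) (tS 𝔛 h𝔛.1 𝔐.F 𝔐.toPush k U s) =
      tS 𝔛 h𝔛.1 𝔑.F 𝔑.toPush k U ((levelHom h𝔛 h𝔐 α (k + 1)).app (𝔛.lvU h𝔛.1 (k + 1) U) s) := by
  obtain ⟨s, rfl⟩ := ps_surjective h𝔛 hU h𝔐 (k + 1) s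
  rw [tS_ps, ps_levelHom, ps_levelHom, tS_ps]

theorem toPush_levelHom (α : 𝔐.realMod h𝔛.1 ⟶ 𝔑.realMod h𝔛.1) (k : ℕ) :
    𝔐.toPush k ≫ (Scheme.Modules.pushforward (𝔛.ι k)).map (levelHom h𝔛 h𝔐 α k) =
      levelHom h𝔛 h𝔐 α (k + 1) ≫ 𝔑.toPush k := by
  apply level_hom_ext h𝔛.1
  intro U hU s
  have h1 := tS_levelHom h𝔛 h𝔐 α k hU s
  rw [tS_apply, tS_apply] at h1
  have h2 : (levelHom h𝔛 h𝔐 α k).app (𝔛.lvU h𝔛.1 k U) ((𝔐.F k).presheaf.map (homOfLE (𝔛.lvU_le h𝔛.1 k U)).op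
      ((𝔐.toPush k).app (𝔛.lvU h𝔛.1 (k + 1) U) s)) = (𝔑.F k).presheaf.map (homOfLE (𝔛.lvU_le h𝔛.1 k U)).op
        ((levelHom h𝔛 h𝔐 α k).app ((𝔛.ι k) ⁻¹ᵁ (𝔛.lvU h𝔛.1 (k + 1) U))
          ((𝔐.toPush k).app (𝔛.lvU h𝔛.1 (k + 1) U) s)) :=
    congr($((levelHom h𝔛 h𝔐 α k).mapPresheaf.naturality (homOfLE (𝔛.lvU_le h𝔛.1 k U)).op) _)
  rw [h2] at h1
  have hinj : ∀ a b : Γ(𝔑.F k, (𝔛.ι k) ⁻¹ᵁ (𝔛.lvU h𝔛.1 (k + 1) U)),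
      (𝔑.F k).presheaf.map (homOfLE (𝔛.lvU_le h𝔛.1 k U)).op a =
        (𝔑.F k).presheaf.map (homOfLE (𝔛.lvU_le h𝔛.1 k U)).op b → a = b := by
    intro a b hab
    have h3 := congrArg ((𝔑.F k).presheaf.map (homOfLE (𝔛.lvU_succ h𝔛.1 k U).le).op) hab
    rw [Groth.Agent.Fdesc.QCohStalk.map_map, Groth.Agent.Fdesc.QCohStalk.map_map] at h3
    have h4 : ∀ c : Γ(𝔑.F k, (𝔛.ι k) ⁻¹ᵁ (𝔛.lvU h𝔛.1 (k + 1) U)), (𝔑.F k).presheaf.map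
      (homOfLE ((𝔛.lvU_succ h𝔛.1 k U).le.trans (𝔛.lvU_le h𝔛.1 k U))).op c = c := fun c =>
        K29.RSec.res_self (R := (𝔛.X k).sheaf) (𝔑.F k) _ c
    rw [h4, h4] at h3
    exact h3
  exact hinj _ _ h1

/-- The morphism of systems of a morphism of `O_𝔛`-modules. -/
def sysHom (α : 𝔐.realMod h𝔛.1 ⟶ 𝔑.realMod h𝔛.1) : 𝔐 ⟶ 𝔑 where
  app := levelHom h𝔛 h𝔐 α
  comm k := by
    apply ((Scheme.Modules.pullbackPushforwardAdjunction (𝔛.ι k)).homEquiv _ _).injective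
    rw [Adjunction.homEquiv_naturality_left, Adjunction.homEquiv_naturality_right]
    exact (toPush_levelHom h𝔛 h𝔐 α k).symm

include h𝔐 in
theorem realModMap_bijective : Function.Bijective (fun φ : 𝔐 ⟶ 𝔑 => FSch.ModSys.realModMap h𝔛.1 φ) := by
  constructor
  · intro φ ψ hφψ
    apply FSch.ModSys.Hom.ext
    funext k
    apply level_hom_ext h𝔛.1
    intro U hU s
    obtain ⟨s, rfl⟩ := ps_surjective h𝔛 hU h𝔐 k s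
    have h1 := ps_realModMap h𝔛.1 φ k U s
    have h2 := ps_realModMap h𝔛.1 ψ k U s
    rw [← h1, ← h2]
    exact congrArg (fun β => ps 𝔛 h𝔛.1 𝔑.F 𝔑.toPush k U (app β U s)) hφψ
  · intro α
    refine ⟨sysHom h𝔛 h𝔐 α, ?_⟩
    apply K29.RSec.hom_ext
    intro U s
    apply sec_ext 𝔛 h𝔛.1 𝔑.F 𝔑.toPush
    intro k
    refine (ps_realModMap h𝔛.1 (sysHom h𝔛 h𝔐 α) k U s).trans ?_
    exact ps_levelHom h𝔛 h𝔐 α k U s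

end Hom

end K28.RealLevel
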