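import Groth.Agent.FCompl.K28.RealLevel
import Groth.Agent.FCompl.K29.RPres

/-!
# Modules which are finite and cartesian on a basis are of finite presentation

* `SBC.piFin`: `A ^ n → B ^ n` is a base change;
* `isFinitePresentation_of_basis`: `N : Mod R`, `𝓑` a basis of opens with `O R U` Noetherian, `N(U)` finite over
  `O R U`, and `N(U) → N(V)` a base change for `V ≤ U` in `𝓑`: then `N` is of finite presentation;
* `isCohF_realMod` (= S13334).
-/

set_option autoImplicit false
set_option linter.style.haveILetI false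

universe u

open CategoryTheory CategoryTheory.Limits AlgebraicGeometry TopologicalSpace Opposite
open K29.RSec K29.RStalk K29.RPull K29.RPres K919.AffBasic K28.RealSec K28.BasisIso K28.RealAff

noncomputable section

namespace K28

namespace SBC

/-- Base change of a finite free module. -/
theorem piFin {A B : Type u} [CommRing A] [CommRing B] (ρ : A →+* B) (n : ℕ) :
    SBC ρ (⟨⟨fun a j => ρ (a j), funext fun _ => map_zero ρ⟩, fun _ _ => funext fun _ => map_add ρ _ _⟩ :
      (Fin n → A) →+ (Fin n → B)) where
  smul a m := funext fun j => map_mul ρ _ _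
  span := by
    rw [eq_top_iff]
    intro b _
    have hb : b = ∑ j, b j • (Pi.single j (1 : B) : Fin n → B) := by
      funext i
      rw [Finset.sum_apply, Finset.sum_eq_single i]
      · simp
      · intro j _ hj
        simp [Pi.single_eq_of_ne' hj]
      · intro hi
        exact absurd (Finset.mem_univ _) hi
    rw [hb]
    refine Submodule.sum_mem _ fun j _ => Submodule.smul_mem _ _ (Submodule.subset_span ⟨Pi.single j 1, ?_⟩)
    funext i
    by_cases hij : i = j
    · subst hij
      simp
    · simp [Pi.single_eq_of_ne hij]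
  lift P _ _ k hk := by
    refine ⟨Fintype.linearCombination B (fun j => k (Pi.single j 1)), fun m => ?_⟩
    have hm : m = ∑ j, m j • (Pi.single j (1 : A) : Fin n → A) := by
      funext i
      rw [Finset.sum_apply, Finset.sum_eq_single i]
      · simp
      · intro j _ hj
        simp [Pi.single_eq_of_ne' hj]
      · intro hi
        exact absurd (Finset.mem_univ _) hi
    conv_rhs => rw [hm, map_sum]
    rw [Fintype.linearCombination_apply]
    exact Finset.sum_congr rfl fun j _ => (hk _ _).symm

end SBC

namespace RealPres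

variable {T : TopCat.{u}} {R : Sheaf (Opens.grothendieckTopology T) CommRingCat.{u}}

/-- Modules which are finite and cartesian on a basis of opens with Noetherian rings are of finite presentation. -/
theorem gen_of_basis {𝓑 : Set (Opens T)} (hB : Basis 𝓑) {N : Mod R} {U : Opens T}
    (hcart : ∀ V ∈ 𝓑, ∀ hVU : V ≤ U, SBC (resO (R := R) hVU) (res N hVU)) {n : ℕ} (s : Fin n → Sec N U)
    (hs : Submodule.span (O R U) (Set.range s) = ⊤) : Gen N U s := by
  intro V hV t x hx
  obtain ⟨W, hW, hxW, hWV⟩ := hB x V hx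
  refine ⟨W, hWV, hxW, ?_⟩
  have h1 := hcart W hW (hWV.trans hV)
  have key : ∀ y : Sec N W, y ∈ Submodule.span (O R W) (Set.range fun j => res N (hWV.trans hV) (s j)) := by
    intro y
    induction y using h1.induction with
    | zero => exact Submodule.zero_mem _
    | tmul m =>
      have hm : m ∈ Submodule.span (O R U) (Set.range s) := by rw [hs]; trivial
      induction hm using Submodule.span_induction with
      | mem x hx =>
        obtain ⟨j, rfl⟩ := hx
        exact Submodule.subset_span ⟨j, rfl⟩
      | zero => rw [map_zero]; exact Submodule.zero_mem _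
      | add x y _ _ hx hy => rw [map_add]; exact Submodule.add_mem _ hx hy
      | smul a x _ hx => rw [res_smul]; exact Submodule.smul_mem _ _ hx
    | smul b q hq => exact Submodule.smul_mem _ _ hq
    | add q q' hq hq' => exact Submodule.add_mem _ hq hq'
  obtain ⟨c, hc⟩ := (Submodule.mem_span_range_iff_exists_fun _).1 (key (res N hWV t))
  exact ⟨c, hc.symm⟩

theorem rel_of_basis {𝓑 : Set (Opens T)} (hB : Basis 𝓑) {N : Mod R} {U : Opens T}
    (hcart : ∀ V ∈ 𝓑, ∀ hVU : V ≤ U, SBC (resO (R := R) hVU) (res N hVU)) {n m : ℕ} (s : Fin n → Sec N U)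
    (hs : Submodule.span (O R U) (Set.range s) = ⊤) (r : Fin m → Fin n → O R U)
    (hr : ∀ c : Fin n → O R U, ∑ j, c j • s j = 0 ↔ c ∈ Submodule.span (O R U) (Set.range r)) : Rel N U s r := by
  refine ⟨fun k => (hr (r k)).2 (Submodule.subset_span ⟨k, rfl⟩), fun V hV c hc x hx => ?_⟩
  obtain ⟨W, hW, hxW, hWV⟩ := hB x V hx
  refine ⟨W, hWV, hxW, ?_⟩
  have h1 := hcart W hW (hWV.trans hV)
  let α : (Fin m → O R U) →ₗ[O R U] (Fin n → O R U) := Fintype.linearCombination (O R U) r
  let γ : (Fin n → O R U) →ₗ[O R U] Sec N U := Fintype.linearCombination (O R U) s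
  let β : (Fin m → O R W) →ₗ[O R W] (Fin n → O R W) :=
    Fintype.linearCombination (O R W) (fun k j => resO (hWV.trans hV) (r k j))
  let δ : (Fin n → O R W) →ₗ[O R W] Sec N W :=
    Fintype.linearCombination (O R W) (fun j => res N (hWV.trans hV) (s j))
  have hex : Function.Exact β δ := by
    refine SBC.exact_right (SBC.piFin (resO (R := R) (hWV.trans hV)) m) (SBC.piFin (resO (R := R) (hWV.trans hV)) n)
      h1 α γ β δ (fun a => ?_) (fun a => ?_) (fun a => ?_) ?_
    · funext j
      change (Fintype.linearCombination (O R W) (fun k j => resO (hWV.trans hV) (r k j))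
        (fun k => resO (hWV.trans hV) (a k))) j = resO (hWV.trans hV) ((Fintype.linearCombination (O R U) r a) j)
      rw [Fintype.linearCombination_apply, Fintype.linearCombination_apply, Finset.sum_apply, Finset.sum_apply,
        map_sum]
      exact Finset.sum_congr rfl fun k _ => (map_mul _ _ _).symm
    · change Fintype.linearCombination (O R W) (fun j => res N (hWV.trans hV) (s j))
        (fun j => resO (hWV.trans hV) (a j)) = res N (hWV.trans hV) (Fintype.linearCombination (O R U) s a)
      rw [Fintype.linearCombination_apply, Fintype.linearCombination_apply, map_sum]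
      exact Finset.sum_congr rfl fun k _ => (res_smul _ _ _ _).symm
    · change Fintype.linearCombination (O R U) s a = 0 ↔ a ∈ Set.range (Fintype.linearCombination (O R U) r)
      rw [Fintype.linearCombination_apply, hr a, Submodule.mem_span_range_iff_exists_fun]
      constructor
      · rintro ⟨d, hd⟩
        exact ⟨d, by rw [Fintype.linearCombination_apply, hd]⟩
      · rintro ⟨d, hd⟩
        exact ⟨d, by rw [← hd, Fintype.linearCombination_apply]⟩
    · intro y
      have hy : y ∈ Submodule.span (O R U) (Set.range s) := by rw [hs]; trivial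
      obtain ⟨d, hd⟩ := (Submodule.mem_span_range_iff_exists_fun _).1 hy
      exact ⟨d, by rw [← hd]; exact Fintype.linearCombination_apply _ _ _⟩
  have h2 : δ (fun j => resO hWV (c j)) = 0 := by
    have h3 := congrArg (res N hWV) hc
    rw [map_zero, map_sum] at h3
    change Fintype.linearCombination (O R W) (fun j => res N (hWV.trans hV) (s j)) (fun j => resO hWV (c j)) = 0
    rw [Fintype.linearCombination_apply, ← h3]
    exact Finset.sum_congr rfl fun j _ => by rw [res_smul, res_res]
  obtain ⟨d, hd⟩ := (hex _).1 h2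
  refine ⟨d, fun j => ?_⟩
  have h4 := congrFun hd j
  change (Fintype.linearCombination (O R W) (fun k j => resO (hWV.trans hV) (r k j)) d) j = resO hWV (c j) at h4
  rw [Fintype.linearCombination_apply, Finset.sum_apply] at h4
  exact h4.symm

theorem exists_rel_fg {A M : Type u} [CommRing A] [IsNoetherianRing A] [AddCommGroup M] [Module A M] {n : ℕ}
    (s : Fin n → M) : ∃ (m : ℕ) (r : Fin m → Fin n → A), ∀ c : Fin n → A,
      ∑ j, c j • s j = 0 ↔ c ∈ Submodule.span A (Set.range r) := by
  obtain ⟨m, r, hr⟩ := Submodule.fg_iff_exists_fin_generating_family.1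
    (IsNoetherian.noetherian (LinearMap.ker (Fintype.linearCombination A s)))
  exact ⟨m, r, fun c => by rw [hr, LinearMap.mem_ker, Fintype.linearCombination_apply]⟩

theorem exists_gen_fg {A M : Type u} [CommRing A] [AddCommGroup M] [Module A M] [h : Module.Finite A M] :
    ∃ (n : ℕ) (s : Fin n → M), Submodule.span A (Set.range s) = ⊤ :=
  Submodule.fg_iff_exists_fin_generating_family.1 h.1

/-- Modules which are finite and cartesian on a basis of opens with Noetherian rings are of finite presentation. -/
theorem isFinitePresentation_of_basis {𝓑 : Set (Opens T)} (hB : Basis 𝓑) {N : Mod R}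
    (hN : ∀ U ∈ 𝓑, IsNoetherianRing (O R U)) (hfin : ∀ U ∈ 𝓑, Module.Finite (O R U) (Sec N U))
    (hcart : ∀ U ∈ 𝓑, ∀ V ∈ 𝓑, ∀ hVU : V ≤ U, SBC (resO (R := R) hVU) (res N hVU)) :
    SheafOfModules.IsFinitePresentation (R := ringSheaf R) N := by
  rw [Groth.Agent.Gaga.H976.TM3.isFinitePresentation_iff]
  intro x
  obtain ⟨U, hU, hxU, -⟩ := hB x ⊤ trivial
  have := hN U hU
  have := hfin U hU
  obtain ⟨n, s, hs⟩ := exists_gen_fg (A := O R U) (M := Sec N U)
  obtain ⟨m, r, hr⟩ := exists_rel_fg (A := O R U) s
  exact (fpAt_iff N x).2 ⟨U, hxU, n, m, s, r, gen_of_basis hB (hcart U hU) s hs,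
    rel_of_basis hB (hcart U hU) s hs r hr⟩

/-- Modules which are finite and cartesian on a basis are of finite type. -/
theorem isFiniteType_of_basis {𝓑 : Set (Opens T)} (hB : Basis 𝓑) {N : Mod R}
    (hfin : ∀ U ∈ 𝓑, Module.Finite (O R U) (Sec N U))
    (hcart : ∀ U ∈ 𝓑, ∀ V ∈ 𝓑, ∀ hVU : V ≤ U, SBC (resO (R := R) hVU) (res N hVU)) :
    SheafOfModules.IsFiniteType (R := ringSheaf R) N := by
  rw [Groth.Agent.Gaga.H976.TM3.isFiniteType_iff]
  intro x
  obtain ⟨U, hU, hxU, -⟩ := hB x ⊤ trivial
  have := hfin U hU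
  obtain ⟨n, s, hs⟩ := exists_gen_fg (A := O R U) (M := Sec N U)
  exact (ftAt_iff N x).2 ⟨U, hxU, n, s, gen_of_basis hB (hcart U hU) s hs⟩

/-- The module of a coherent system is coherent. -/
theorem isCohF_realMod {𝔛 : FSch.Sys.{u}} (h𝔛 : 𝔛.IsLocNoethFormal) {𝔐 : FSch.ModSys 𝔛} (h𝔐 : 𝔐.IsCoh) :
    FSch.IsCohF 𝔛 h𝔛.1 (𝔐.realMod h𝔛.1) :=
  isFinitePresentation_of_basis (RealLevel.basis_aff 𝔛 h𝔛.1) (fun _ hU => isNoetherianRing_O h𝔛 hU)
    (fun _ hU => finite_sec h𝔛 hU h𝔐) fun _ hU _ hV hVU => RealLevel.sbc_res h𝔛 h𝔐 hVU hU hV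

end RealPres

end K28
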