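import Groth.Prelude.Def_FSch5
import Groth.Agent.FCompl.K29.RStalk
import Groth.Agent.FTors.K919.AffBasic
import Groth.Agent.Fdesc.QCohStalk

/-!
# Sections of `lim_k (u_k)_* G_k`

`𝔛` a formal system, `G k` modules on the levels with transition maps `t k : G (k+1) ⟶ (ι k)_* G k`,
`L = FSch.realLim 𝔛 h G t`.
* `ps k U : Sec L U →+ Γ(G k, lvU k U)`: the projections, `tS k U : Γ(G (k+1), _) →+ Γ(G k, _)`: the transition
  maps; both semilinear (`ps_smul`, `tS_smul`) and compatible with restriction (`ps_res`, `tS_res`);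
* `tS_ps`, `sec_ext`, `sec_lift`: sections of `L` over ANY open are the compatible families;
* `ps_realLimMap`, `ps_realModMap`: functoriality;
* `homTo`: morphisms into `L` from compatible families of morphisms.
-/

set_option autoImplicit false
set_option linter.style.haveILetI false

universe u

open CategoryTheory CategoryTheory.Limits AlgebraicGeometry TopologicalSpace Opposite
open K29.RSec K29.RStalk K919.AffBasic

noncomputable section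

namespace K28.RealSec

variable (𝔛 : FSch.Sys.{u}) (h : 𝔛.IsFormal)

theorem lvU_mono (k : ℕ) {U V : (𝔛.X 0).Opens} (hV : V ≤ U) : 𝔛.lvU h k V ≤ 𝔛.lvU h k U := fun _ hx => hV hx

/-- The projection `O_𝔛(U) → O_{X k}(U)`. -/
def pk (k : ℕ) (U : (𝔛.X 0).Opens) : O (𝔛.Osh h) U →+* Γ(𝔛.X k, 𝔛.lvU h k U) := pr 𝔛 h k U

/-- The transition map `O_{X (k+1)}(U) → O_{X k}(U)`. -/
def tk (k : ℕ) (U : (𝔛.X 0).Opens) : Γ(𝔛.X (k + 1), 𝔛.lvU h (k + 1) U) →+* Γ(𝔛.X k, 𝔛.lvU h k U) :=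
  ((𝔛.ι k).appLE (𝔛.lvU h (k + 1) U) (𝔛.lvU h k U) (𝔛.lvU_le h k U)).hom

theorem tk_pk (k : ℕ) (U : (𝔛.X 0).Opens) (a : O (𝔛.Osh h) U) :
    tk 𝔛 h k U (pk 𝔛 h (k + 1) U a) = pk 𝔛 h k U a := tr_pr 𝔛 h k U a

theorem pk_res (k : ℕ) {U V : (𝔛.X 0).Opens} (hV : V ≤ U) (a : O (𝔛.Osh h) U) :
    pk 𝔛 h k V (resO hV a) = (𝔛.X k).presheaf.map (homOfLE (lvU_mono 𝔛 h k hV)).op (pk 𝔛 h k U a) :=
  congr($((𝔛.OshProj h k).hom.naturality (homOfLE hV).op) a)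

/-- Sections of the structure sheaf are determined by their projections. -/
theorem pk_ext {U : (𝔛.X 0).Opens} (x y : O (𝔛.Osh h) U) (hxy : ∀ n, pk 𝔛 h n U x = pk 𝔛 h n U y) : x = y :=
  osh_ext 𝔛 h x y hxy

theorem pk_lift {U : (𝔛.X 0).Opens} (y : ∀ n, Γ(𝔛.X n, 𝔛.lvU h n U)) (hy : ∀ n, tk 𝔛 h n U (y (n + 1)) = y n) :
    ∃ x : O (𝔛.Osh h) U, ∀ n, pk 𝔛 h n U x = y n := osh_lift 𝔛 h y hy

/-- Sections of `(u_k)_* M` over `U`. -/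
def ofPushL {k : ℕ} {M : (𝔛.X k).Modules} {U : (𝔛.X 0).Opens} :
    Sec ((FSch.levelMor 𝔛 h k).push.obj M) U →+ Γ(M, 𝔛.lvU h k U) where
  toFun s := s
  map_zero' := rfl
  map_add' _ _ := rfl

/-- Sections of `(u_k)_* M` over `U`. -/
def toPushL {k : ℕ} {M : (𝔛.X k).Modules} {U : (𝔛.X 0).Opens} :
    Γ(M, 𝔛.lvU h k U) →+ Sec ((FSch.levelMor 𝔛 h k).push.obj M) U where
  toFun s := s
  map_zero' := rfl
  map_add' _ _ := rfl

@[simp] theorem ofPushL_toPushL {k : ℕ} {M : (𝔛.X k).Modules} {U : (𝔛.X 0).Opens} (s : Γ(M, 𝔛.lvU h k U)) :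
    ofPushL 𝔛 h (toPushL 𝔛 h s) = s := rfl

@[simp] theorem toPushL_ofPushL {k : ℕ} {M : (𝔛.X k).Modules} {U : (𝔛.X 0).Opens}
    (s : Sec ((FSch.levelMor 𝔛 h k).push.obj M) U) : toPushL 𝔛 h (ofPushL 𝔛 h s) = s := rfl

theorem ofPushL_smul {k : ℕ} {M : (𝔛.X k).Modules} {U : (𝔛.X 0).Opens} (a : O (𝔛.Osh h) U)
    (s : Sec ((FSch.levelMor 𝔛 h k).push.obj M) U) :
    ofPushL 𝔛 h (a • s) = pk 𝔛 h k U a • ofPushL 𝔛 h s := rfl

theorem toPushL_smul {k : ℕ} {M : (𝔛.X k).Modules} {U : (𝔛.X 0).Opens} (a : O (𝔛.Osh h) U)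
    (s : Γ(M, 𝔛.lvU h k U)) :
    toPushL 𝔛 h (pk 𝔛 h k U a • s) = a • toPushL 𝔛 h s := rfl

theorem ofPushL_res {k : ℕ} {M : (𝔛.X k).Modules} {U V : (𝔛.X 0).Opens} (hV : V ≤ U)
    (s : Sec ((FSch.levelMor 𝔛 h k).push.obj M) U) :
    ofPushL 𝔛 h (res _ hV s) = M.presheaf.map (homOfLE (lvU_mono 𝔛 h k hV)).op (ofPushL 𝔛 h s) := rfl

theorem ofPushL_app {k : ℕ} {M N : (𝔛.X k).Modules} (φ : M ⟶ N) {U : (𝔛.X 0).Opens}
    (s : Sec ((FSch.levelMor 𝔛 h k).push.obj M) U) :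
    ofPushL 𝔛 h (app ((FSch.levelMor 𝔛 h k).push.map φ) U s) = φ.app (𝔛.lvU h k U) (ofPushL 𝔛 h s) := rfl

section Lim

variable (G : ∀ k, (𝔛.X k).Modules) (t : ∀ k, G (k + 1) ⟶ (Scheme.Modules.pushforward (𝔛.ι k)).obj (G k))

/-- The transition maps on sections. -/
def tS (k : ℕ) (U : (𝔛.X 0).Opens) : Γ(G (k + 1), 𝔛.lvU h (k + 1) U) →+ Γ(G k, 𝔛.lvU h k U) :=
  ((G k).presheaf.map (homOfLE (𝔛.lvU_le h k U)).op).hom.comp ((t k).app (𝔛.lvU h (k + 1) U)).hom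

theorem tS_apply (k : ℕ) (U : (𝔛.X 0).Opens) (s : Γ(G (k + 1), 𝔛.lvU h (k + 1) U)) :
    tS 𝔛 h G t k U s = (G k).presheaf.map (homOfLE (𝔛.lvU_le h k U)).op ((t k).app (𝔛.lvU h (k + 1) U) s) := rfl

theorem tS_smul (k : ℕ) (U : (𝔛.X 0).Opens) (a : Γ(𝔛.X (k + 1), 𝔛.lvU h (k + 1) U))
    (s : Γ(G (k + 1), 𝔛.lvU h (k + 1) U)) :
    tS 𝔛 h G t k U (a • s) = tk 𝔛 h k U a • tS 𝔛 h G t k U s := by
  rw [tS_apply, tS_apply, Scheme.Modules.Hom.app_smul]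
  refine (Groth.Agent.Fdesc.QCohStalk.map_smul' _ (𝔛.lvU_le h k U) ((𝔛.ι k).app (𝔛.lvU h (k + 1) U) a) _).trans ?_
  rfl

theorem tS_res (k : ℕ) {U V : (𝔛.X 0).Opens} (hV : V ≤ U) (s : Γ(G (k + 1), 𝔛.lvU h (k + 1) U)) :
    tS 𝔛 h G t k V ((G (k + 1)).presheaf.map (homOfLE (lvU_mono 𝔛 h (k + 1) hV)).op s) =
      (G k).presheaf.map (homOfLE (lvU_mono 𝔛 h k hV)).op (tS 𝔛 h G t k U s) := by
  have h1 : (t k).app (𝔛.lvU h (k + 1) V) ((G (k + 1)).presheaf.map (homOfLE (lvU_mono 𝔛 h (k + 1) hV)).op s) =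
      (G k).presheaf.map (homOfLE (Scheme.Hom.preimage_mono (𝔛.ι k) (lvU_mono 𝔛 h (k + 1) hV))).op
        ((t k).app (𝔛.lvU h (k + 1) U) s) :=
    congr($((t k).mapPresheaf.naturality (homOfLE (lvU_mono 𝔛 h (k + 1) hV)).op) s)
  rw [tS_apply, tS_apply, h1, Groth.Agent.Fdesc.QCohStalk.map_map, Groth.Agent.Fdesc.QCohStalk.map_map]

/-- The successor map of the system of direct images, on sections. -/
theorem ofPushL_succ (k : ℕ) (U : (𝔛.X 0).Opens) (s : Sec ((FSch.levelMor 𝔛 h (k + 1)).push.obj (G (k + 1))) U) :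
    ofPushL 𝔛 h (app ((FSch.levelMor 𝔛 h (k + 1)).push.map (t k) ≫ (FSch.pushCompare 𝔛 h k).app (G k)) U s) =
      tS 𝔛 h G t k U (ofPushL 𝔛 h s) := rfl

/-- The projections of sections. -/
def ps (k : ℕ) (U : (𝔛.X 0).Opens) : Sec (FSch.realLim 𝔛 h G t) U →+ Γ(G k, 𝔛.lvU h k U) :=
  (ofPushL 𝔛 h).comp (app (FSch.realProj 𝔛 h G t k) U).toAddMonoidHom

theorem ps_apply (k : ℕ) (U : (𝔛.X 0).Opens) (s : Sec (FSch.realLim 𝔛 h G t) U) :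
    ps 𝔛 h G t k U s = ofPushL 𝔛 h (app (FSch.realProj 𝔛 h G t k) U s) := rfl

theorem ps_smul (k : ℕ) (U : (𝔛.X 0).Opens) (a : O (𝔛.Osh h) U) (s : Sec (FSch.realLim 𝔛 h G t) U) :
    ps 𝔛 h G t k U (a • s) = pk 𝔛 h k U a • ps 𝔛 h G t k U s := by
  rw [ps_apply, map_smul]
  rfl

theorem ps_res (k : ℕ) {U V : (𝔛.X 0).Opens} (hV : V ≤ U) (s : Sec (FSch.realLim 𝔛 h G t) U) :
    ps 𝔛 h G t k V (res _ hV s) =
      (G k).presheaf.map (homOfLE (lvU_mono 𝔛 h k hV)).op (ps 𝔛 h G t k U s) := by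
  rw [ps_apply, app_res]
  rfl

theorem tS_ps (k : ℕ) (U : (𝔛.X 0).Opens) (s : Sec (FSch.realLim 𝔛 h G t) U) :
    tS 𝔛 h G t k U (ps 𝔛 h G t (k + 1) U s) = ps 𝔛 h G t k U s := by
  rw [ps_apply, ps_apply, ← ofPushL_succ, ← app_comp, FSch.realProj_map]

/-- Sections over `U` as a functor to types. -/
abbrev secF (U : (𝔛.X 0).Opens) : FSch.ModF 𝔛 h ⥤ Type u :=
  SheafOfModules.evaluation _ (op U) ⋙ forget (ModuleCat _)

/-- The limit cone of sections. -/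
def isLimitSec (U : (𝔛.X 0).Opens) :
    IsLimit ((secF 𝔛 h U).mapCone (limit.cone (FSch.levelSysOf 𝔛 h G t))) :=
  isLimitOfPreserves (secF 𝔛 h U) (limit.isLimit (FSch.levelSysOf 𝔛 h G t))

/-- Sections of the limit are determined by their projections. -/
theorem sec_ext {U : (𝔛.X 0).Opens} (x y : Sec (FSch.realLim 𝔛 h G t) U)
    (hxy : ∀ k, ps 𝔛 h G t k U x = ps 𝔛 h G t k U y) : x = y := by
  apply (Types.isLimitEquivSections (isLimitSec 𝔛 h G t U)).injective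
  apply Subtype.ext
  funext j
  exact hxy j.unop

/-- Compatible families of sections come from a section of the limit. -/
theorem sec_lift {U : (𝔛.X 0).Opens} (y : ∀ k, Γ(G k, 𝔛.lvU h k U))
    (hy : ∀ k, tS 𝔛 h G t k U (y (k + 1)) = y k) :
    ∃ x : Sec (FSch.realLim 𝔛 h G t) U, ∀ k, ps 𝔛 h G t k U x = y k := by
  let F : ℕᵒᵖ ⥤ Type u := FSch.levelSysOf 𝔛 h G t ⋙ secF 𝔛 h U
  have hF : ∀ n : ℕ, F.map (homOfLE (Nat.le_add_right n 1)).op (y (n + 1)) = y n := by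
    intro n
    have e := FSch.levelSysOf_map_succ 𝔛 h G t n
    change app ((FSch.levelSysOf 𝔛 h G t).map (homOfLE (Nat.le_add_right n 1)).op) U (y (n + 1)) = y n
    rw [e]
    exact hy n
  let s : F.sections := ⟨fun j => y j.unop, fun f => map_eq_of_succ F y hF f⟩
  refine ⟨(Types.isLimitEquivSections (isLimitSec 𝔛 h G t U)).symm s, fun n => ?_⟩
  have e := Types.isLimitEquivSections_symm_apply (isLimitSec 𝔛 h G t U) s (op n)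
  exact e

variable {G t} {G' : ∀ k, (𝔛.X k).Modules} {t' : ∀ k, G' (k + 1) ⟶ (Scheme.Modules.pushforward (𝔛.ι k)).obj (G' k)}

theorem ps_realLimMap (φ : ∀ k, G k ⟶ G' k)
    (hφ : ∀ k, t k ≫ (Scheme.Modules.pushforward (𝔛.ι k)).map (φ k) = φ (k + 1) ≫ t' k) (k : ℕ)
    (U : (𝔛.X 0).Opens) (s : Sec (FSch.realLim 𝔛 h G t) U) :
    ps 𝔛 h G' t' k U (app (FSch.realLimMap 𝔛 h φ hφ) U s) = (φ k).app (𝔛.lvU h k U) (ps 𝔛 h G t k U s) := by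
  rw [ps_apply, ← app_comp, FSch.realLimMap_realProj]
  rfl

end Lim

section Mod

variable {𝔛} (𝔐 : FSch.ModSys 𝔛)

theorem ps_realModMap {𝔐 𝔑 : FSch.ModSys 𝔛} (φ : 𝔐 ⟶ 𝔑) (k : ℕ)
    (U : (𝔛.X 0).Opens) (s : Sec (𝔐.realMod h) U) :
    ps 𝔛 h 𝔑.F 𝔑.toPush k U (app (FSch.ModSys.realModMap h φ) U s) =
      (FSch.ModSys.Hom.app φ k).app (𝔛.lvU h k U) (ps 𝔛 h 𝔐.F 𝔐.toPush k U s) :=
  ps_realLimMap 𝔛 h _ _ k U s

end Mod

end K28.RealSec
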