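import Groth.Agent.FCompl.K28.BCAlg
import Mathlib.RingTheory.RingHom.Flat
import Mathlib.RingTheory.Flat.Stability

/-!
# Semilinear base change

`SBC ρ g`: the additive map `g : M → Q`, semilinear along the ring map `ρ : A → B`, exhibits the `B`-module `Q`
as `B ⊗_A M`.  A formulation of Mathlib's `IsBaseChange` without algebra and scalar tower instances, suited to
sections of sheaves of modules over varying opens.

* `SBC.of_isBaseChange`, `SBC.isBaseChange`: comparison with `IsBaseChange`;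
* `SBC.comp`, `SBC.of_comp`, `SBC.of_surjective`, `SBC.of_levels`, `SBC.finite`;
* `SBC.injective`, `SBC.exact`, `SBC.exact_right`, `SBC.surjective`: exactness properties;
* `SBC.bijective`: comparison of two base changes.
-/

set_option autoImplicit false
set_option linter.style.haveILetI false

universe u

open scoped TensorProduct

namespace K28

/-- `g` is a base change along `ρ`. -/
structure SBC {A B : Type u} [CommRing A] [CommRing B] (ρ : A →+* B) {M Q : Type u} [AddCommGroup M] [Module A M]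
    [AddCommGroup Q] [Module B Q] (g : M →+ Q) : Prop where
  smul : ∀ (a : A) (m : M), g (a • m) = ρ a • g m
  span : Submodule.span B (Set.range g) = ⊤
  lift : ∀ (P : Type u) [AddCommGroup P] [Module B P] (k : M →+ P), (∀ (a : A) (m : M), k (a • m) = ρ a • k m) →
    ∃ k' : Q →ₗ[B] P, ∀ m, k' (g m) = k m

namespace SBC

section Basic

variable {A B : Type u} [CommRing A] [CommRing B] {ρ : A →+* B} {M Q : Type u} [AddCommGroup M] [Module A M]
    [AddCommGroup Q] [Module B Q] {g : M →+ Q}

theorem induction (h : SBC ρ g) {p : Q → Prop} (q : Q) (zero : p 0) (tmul : ∀ m, p (g m))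
    (smul : ∀ (b : B) (q : Q), p q → p (b • q)) (add : ∀ q q', p q → p q' → p (q + q')) : p q := by
  have hq : q ∈ Submodule.span B (Set.range g) := by rw [h.span]; trivial
  induction hq using Submodule.span_induction with
  | mem x hx => obtain ⟨m, rfl⟩ := hx; exact tmul m
  | zero => exact zero
  | add x y _ _ hx hy => exact add x y hx hy
  | smul b x _ hx => exact smul b x hx

theorem hom_ext (h : SBC ρ g) {P : Type*} [AddCommGroup P] [Module B P] {k k' : Q →ₗ[B] P}
    (hk : ∀ m, k (g m) = k' (g m)) : k = k' := by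
  ext q
  induction q using h.induction with
  | zero => rw [map_zero, map_zero]
  | tmul m => exact hk m
  | smul b q hq => rw [map_smul, map_smul, hq]
  | add q q' hq hq' => rw [map_add, map_add, hq, hq']

end Basic

/-- Comparison with `IsBaseChange`. -/
theorem of_isBaseChange {A B : Type u} [CommRing A] [CommRing B] [Algebra A B] {M Q : Type u} [AddCommGroup M]
    [Module A M] [AddCommGroup Q] [Module A Q] [Module B Q] [IsScalarTower A B Q] {g : M →ₗ[A] Q}
    (h : IsBaseChange B g) : SBC (algebraMap A B) g.toAddMonoidHom where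
  smul a m := by
    change g (a • m) = algebraMap A B a • g m
    rw [map_smul, algebraMap_smul]
  span := by
    rw [eq_top_iff]
    intro q _
    induction q using h.inductionOn with
    | zero => exact Submodule.zero_mem _
    | tmul m => exact Submodule.subset_span ⟨m, rfl⟩
    | smul b q hq => exact Submodule.smul_mem _ b (hq trivial)
    | add q q' hq hq' => exact Submodule.add_mem _ (hq trivial) (hq' trivial)
  lift P _ _ k hk := by
    letI : Module A P := Module.compHom P (algebraMap A B)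
    haveI : IsScalarTower A B P := ⟨fun a b p => by rw [Algebra.smul_def, mul_smul]; rfl⟩
    let k₁ : M →ₗ[A] P := { toFun := k, map_add' := map_add k, map_smul' := fun a m => hk a m }
    exact ⟨h.lift k₁, fun m => h.lift_eq k₁ m⟩

/-- Comparison with `IsBaseChange`. -/
theorem isBaseChange {A B : Type u} [CommRing A] [CommRing B] [Algebra A B] {M Q : Type u} [AddCommGroup M]
    [Module A M] [AddCommGroup Q] [Module A Q] [Module B Q] [IsScalarTower A B Q] {g : M →ₗ[A] Q}
    (h : SBC (algebraMap A B) g.toAddMonoidHom) : IsBaseChange B g := by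
  apply IsBaseChange.of_lift_unique
  intro P _ _ _ _ k
  letI : AddCommGroup P := Module.addCommMonoidToAddCommGroup B
  obtain ⟨k', hk'⟩ := h.lift P k.toAddMonoidHom (fun a m => by
    change k (a • m) = algebraMap A B a • k m
    rw [map_smul, algebraMap_smul])
  refine ⟨k', LinearMap.ext hk', fun k'' hk'' => h.hom_ext fun m => ?_⟩
  exact (LinearMap.congr_fun hk'' m).trans (hk' m).symm

section Ring

variable {A B : Type u} [CommRing A] [CommRing B] (ρ : A →+* B) {M Q : Type u} [AddCommGroup M] [Module A M]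
    [AddCommGroup Q] [Module B Q] (g : M →+ Q)

/-- The linear form of a semilinear map. -/
def lin (hg : ∀ (a : A) (m : M), g (a • m) = ρ a • g m) :
    letI : Module A Q := Module.compHom Q ρ
    M →ₗ[A] Q :=
  letI : Module A Q := Module.compHom Q ρ
  { toFun := g, map_add' := map_add g, map_smul' := fun a m => hg a m }

theorem tower :
    letI : Algebra A B := ρ.toAlgebra
    letI : Module A Q := Module.compHom Q ρ
    IsScalarTower A B Q := by
  letI : Algebra A B := ρ.toAlgebra
  letI : Module A Q := Module.compHom Q ρ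
  exact ⟨fun a b p => by rw [Algebra.smul_def, mul_smul]; rfl⟩

variable {ρ g}

theorem isBaseChange' (h : SBC ρ g) :
    letI : Algebra A B := ρ.toAlgebra
    letI : Module A Q := Module.compHom Q ρ
    haveI : IsScalarTower A B Q := tower ρ
    IsBaseChange B (lin ρ g h.smul) := by
  letI : Algebra A B := ρ.toAlgebra
  letI : Module A Q := Module.compHom Q ρ
  haveI : IsScalarTower A B Q := tower ρ
  exact SBC.isBaseChange (g := lin ρ g h.smul) h

theorem of_isBaseChange' (hg : ∀ (a : A) (m : M), g (a • m) = ρ a • g m)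
    (h : letI : Algebra A B := ρ.toAlgebra
      letI : Module A Q := Module.compHom Q ρ
      haveI : IsScalarTower A B Q := tower ρ
      IsBaseChange B (lin ρ g hg)) : SBC ρ g := by
  letI : Algebra A B := ρ.toAlgebra
  letI : Module A Q := Module.compHom Q ρ
  haveI : IsScalarTower A B Q := tower ρ
  exact SBC.of_isBaseChange (g := lin ρ g hg) h

theorem of_surjective (hg : ∀ (a : A) (m : M), g (a • m) = ρ a • g m) (hs : Function.Surjective ρ)
    (hf : Function.Surjective g)
    (hker : ∀ m, g m = 0 → m ∈ RingHom.ker ρ • (⊤ : Submodule A M)) : SBC ρ g := by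
  letI : Algebra A B := ρ.toAlgebra
  letI : Module A Q := Module.compHom Q ρ
  haveI : IsScalarTower A B Q := tower ρ
  exact of_isBaseChange' hg (BCAlg.isBaseChange_of_surjective hs (lin ρ g hg) hf hker)

theorem surjective_of_surjective (h : SBC ρ g) (hs : Function.Surjective ρ) : Function.Surjective g := by
  intro q
  induction q using h.induction with
  | zero => exact ⟨0, map_zero g⟩
  | tmul m => exact ⟨m, rfl⟩
  | smul b q hq =>
    obtain ⟨m, rfl⟩ := hq
    obtain ⟨a, rfl⟩ := hs b
    exact ⟨a • m, h.smul a m⟩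
  | add q q' hq hq' =>
    obtain ⟨m, rfl⟩ := hq
    obtain ⟨m', rfl⟩ := hq'
    exact ⟨m + m', map_add g m m'⟩

theorem mem_smul_top (h : SBC ρ g) (hs : Function.Surjective ρ) (m : M) (hm : g m = 0) :
    m ∈ RingHom.ker ρ • (⊤ : Submodule A M) := by
  letI : Algebra A B := ρ.toAlgebra
  letI : Module A Q := Module.compHom Q ρ
  haveI : IsScalarTower A B Q := tower ρ
  exact BCAlg.mem_smul_top_of_isBaseChange hs (lin ρ g h.smul) h.isBaseChange' m hm

theorem finite (h : SBC ρ g) [Module.Finite A M] : Module.Finite B Q := by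
  letI : Algebra A B := ρ.toAlgebra
  letI : Module A Q := Module.compHom Q ρ
  haveI : IsScalarTower A B Q := tower ρ
  exact Module.Finite.equiv h.isBaseChange'.equiv

end Ring

section Comp

variable {A B C : Type u} [CommRing A] [CommRing B] [CommRing C] {ρ : A →+* B} {σ : B →+* C}
  {M Q S : Type u} [AddCommGroup M] [Module A M] [AddCommGroup Q] [Module B Q] [AddCommGroup S] [Module C S]
  {g : M →+ Q} {g' : Q →+ S}

theorem comp (h : SBC ρ g) (h' : SBC σ g') : SBC (σ.comp ρ) (g'.comp g) where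
  smul a m := by
    change g' (g (a • m)) = σ (ρ a) • g' (g m)
    rw [h.smul, h'.smul]
  span := by
    rw [eq_top_iff]
    intro s _
    induction s using h'.induction with
    | zero => exact Submodule.zero_mem _
    | tmul q =>
      induction q using h.induction with
      | zero => rw [map_zero]; exact Submodule.zero_mem _
      | tmul m => exact Submodule.subset_span ⟨m, rfl⟩
      | smul b q hq => rw [h'.smul]; exact Submodule.smul_mem _ _ (hq trivial)
      | add q q' hq hq' => rw [map_add]; exact Submodule.add_mem _ (hq trivial) (hq' trivial)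
    | smul b q hq => exact Submodule.smul_mem _ b (hq trivial)
    | add q q' hq hq' => exact Submodule.add_mem _ (hq trivial) (hq' trivial)
  lift P _ _ k hk := by
    letI : Module B P := Module.compHom P σ
    obtain ⟨k₁, hk₁⟩ := h.lift P k (fun a m => hk a m)
    obtain ⟨k₂, hk₂⟩ := h'.lift P k₁.toAddMonoidHom (fun b q => k₁.map_smul b q)
    exact ⟨k₂, fun m => (hk₂ (g m)).trans (hk₁ m)⟩

theorem of_comp (h : SBC ρ g) (hg' : ∀ (b : B) (q : Q), g' (b • q) = σ b • g' q)
    (hc : SBC (σ.comp ρ) (g'.comp g)) : SBC σ g' where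
  smul := hg'
  span := by
    rw [eq_top_iff, ← hc.span]
    apply Submodule.span_mono
    rintro _ ⟨m, rfl⟩
    exact ⟨g m, rfl⟩
  lift P _ _ k hk := by
    obtain ⟨k', hk'⟩ := hc.lift P (k.comp g) (fun a m => by
      change k (g (a • m)) = σ (ρ a) • k (g m)
      rw [h.smul, hk])
    refine ⟨k', fun q => ?_⟩
    induction q using h.induction with
    | zero => rw [map_zero, map_zero, map_zero]
    | tmul m => exact hk' m
    | smul b q hq => rw [hg', map_smul, hq, hk]
    | add q q' hq hq' => rw [map_add, map_add, hq, hq', map_add]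

end Comp

section Comparison

variable {A B : Type u} [CommRing A] [CommRing B] {ρ : A →+* B} {M Q Q' : Type u} [AddCommGroup M] [Module A M]
  [AddCommGroup Q] [Module B Q] [AddCommGroup Q'] [Module B Q'] {g : M →+ Q} {g' : M →+ Q'}

/-- Two base changes of the same module. -/
theorem bijective (h : SBC ρ g) (h' : SBC ρ g') (β : Q →ₗ[B] Q') (hβ : ∀ m, β (g m) = g' m) :
    Function.Bijective β := by
  obtain ⟨γ, hγ⟩ := h'.lift Q g h.smul
  have e1 : γ ∘ₗ β = LinearMap.id := h.hom_ext fun m => by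
    rw [LinearMap.comp_apply, hβ, hγ]; rfl
  have e2 : β ∘ₗ γ = LinearMap.id := h'.hom_ext fun m => by
    rw [LinearMap.comp_apply, hγ, hβ]; rfl
  exact ⟨fun x y hxy => by
    have := congrArg γ hxy
    rw [← LinearMap.comp_apply, ← LinearMap.comp_apply, e1] at this
    exact this, fun y => ⟨γ y, LinearMap.congr_fun e2 y⟩⟩

/-- Transport along a linear bijection. -/
theorem of_bijective (h : SBC ρ g) (β : Q →ₗ[B] Q') (hβ : Function.Bijective β) (hβ' : ∀ m, β (g m) = g' m) :
    SBC ρ g' where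
  smul a m := by rw [← hβ', h.smul, map_smul, hβ']
  span := by
    rw [eq_top_iff]
    intro q _
    obtain ⟨q, rfl⟩ := hβ.2 q
    induction q using h.induction with
    | zero => rw [map_zero]; exact Submodule.zero_mem _
    | tmul m => exact Submodule.subset_span ⟨m, (hβ' m).symm⟩
    | smul b q hq => rw [map_smul]; exact Submodule.smul_mem _ b (hq trivial)
    | add q q' hq hq' => rw [map_add]; exact Submodule.add_mem _ (hq trivial) (hq' trivial)
  lift P _ _ k hk := by
    obtain ⟨k', hk'⟩ := h.lift P k hk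
    refine ⟨k' ∘ₗ (LinearEquiv.ofBijective β hβ).symm.toLinearMap, fun m => ?_⟩
    have : (LinearEquiv.ofBijective β hβ).symm (g' m) = g m := by
      rw [LinearEquiv.symm_apply_eq]
      exact (hβ' m).symm
    change k' ((LinearEquiv.ofBijective β hβ).symm (g' m)) = k m
    rw [this, hk']

end Comparison

section Exact

variable {A B : Type u} [CommRing A] [CommRing B] {ρ : A →+* B}
  {M₁ M₂ M₃ Q₁ Q₂ Q₃ : Type u} [AddCommGroup M₁] [Module A M₁] [AddCommGroup M₂] [Module A M₂]
  [AddCommGroup M₃] [Module A M₃] [AddCommGroup Q₁] [Module B Q₁] [AddCommGroup Q₂] [Module B Q₂]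
  [AddCommGroup Q₃] [Module B Q₃] {g₁ : M₁ →+ Q₁} {g₂ : M₂ →+ Q₂} {g₃ : M₃ →+ Q₃}

theorem surjective (h₂ : SBC ρ g₂) (α : M₁ →ₗ[A] M₂) (β : Q₁ →ₗ[B] Q₂)
    (hαβ : ∀ m, β (g₁ m) = g₂ (α m)) (hα : Function.Surjective α) : Function.Surjective β := by
  intro q
  induction q using h₂.induction with
  | zero => exact ⟨0, map_zero β⟩
  | tmul m =>
    obtain ⟨m, rfl⟩ := hα m
    exact ⟨g₁ m, hαβ m⟩
  | smul b q hq =>
    obtain ⟨x, rfl⟩ := hq
    exact ⟨b • x, map_smul β b x⟩
  | add q q' hq hq' =>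
    obtain ⟨x, rfl⟩ := hq
    obtain ⟨x', rfl⟩ := hq'
    exact ⟨x + x', map_add β x x'⟩

theorem injective (h₁ : SBC ρ g₁) (h₂ : SBC ρ g₂) (hρ : ρ.Flat) (α : M₁ →ₗ[A] M₂) (β : Q₁ →ₗ[B] Q₂)
    (hαβ : ∀ m, β (g₁ m) = g₂ (α m)) (hα : Function.Injective α) : Function.Injective β := by
  letI : Algebra A B := ρ.toAlgebra
  letI : Module A Q₁ := Module.compHom Q₁ ρ
  letI : Module A Q₂ := Module.compHom Q₂ ρ
  haveI : IsScalarTower A B Q₁ := tower ρ
  haveI : IsScalarTower A B Q₂ := tower ρ
  haveI : Module.Flat A B := hρ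
  have e₁ := h₁.isBaseChange'
  have e₂ := h₂.isBaseChange'
  have key : β ∘ₗ e₁.equiv.toLinearMap = e₂.equiv.toLinearMap ∘ₗ α.baseChange B := by
    refine TensorProduct.AlgebraTensorModule.ext fun b m => ?_
    change β (e₁.equiv (b ⊗ₜ m)) = e₂.equiv (b ⊗ₜ α m)
    rw [e₁.equiv_tmul, e₂.equiv_tmul, map_smul]
    congr 1
    exact hαβ m
  have h3 : Function.Injective (α.baseChange B) := Module.Flat.lTensor_preserves_injective_linearMap α hα
  intro x y hxy
  obtain ⟨x, rfl⟩ := e₁.equiv.surjective x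
  obtain ⟨y, rfl⟩ := e₁.equiv.surjective y
  have h4 := LinearMap.congr_fun key x
  have h5 := LinearMap.congr_fun key y
  change β (e₁.equiv x) = e₂.equiv (α.baseChange B x) at h4
  change β (e₁.equiv y) = e₂.equiv (α.baseChange B y) at h5
  rw [h4, h5] at hxy
  rw [h3 (e₂.equiv.injective hxy)]

theorem exact_aux (h₁ : SBC ρ g₁) (h₂ : SBC ρ g₂) (h₃ : SBC ρ g₃) (α : M₁ →ₗ[A] M₂) (γ : M₂ →ₗ[A] M₃)
    (β : Q₁ →ₗ[B] Q₂) (δ : Q₂ →ₗ[B] Q₃) (hαβ : ∀ m, β (g₁ m) = g₂ (α m)) (hγδ : ∀ m, δ (g₂ m) = g₃ (γ m))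
    (hex : letI : Algebra A B := ρ.toAlgebra
      Function.Exact (α.baseChange B) (γ.baseChange B)) : Function.Exact β δ := by
  letI : Algebra A B := ρ.toAlgebra
  letI : Module A Q₁ := Module.compHom Q₁ ρ
  letI : Module A Q₂ := Module.compHom Q₂ ρ
  letI : Module A Q₃ := Module.compHom Q₃ ρ
  haveI : IsScalarTower A B Q₁ := tower ρ
  haveI : IsScalarTower A B Q₂ := tower ρ
  haveI : IsScalarTower A B Q₃ := tower ρ
  have e₁ := h₁.isBaseChange'
  have e₂ := h₂.isBaseChange'
  have e₃ := h₃.isBaseChange'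
  have key : β ∘ₗ e₁.equiv.toLinearMap = e₂.equiv.toLinearMap ∘ₗ α.baseChange B := by
    refine TensorProduct.AlgebraTensorModule.ext fun b m => ?_
    change β (e₁.equiv (b ⊗ₜ m)) = e₂.equiv (b ⊗ₜ α m)
    rw [e₁.equiv_tmul, e₂.equiv_tmul, map_smul]
    congr 1
    exact hαβ m
  have key' : δ ∘ₗ e₂.equiv.toLinearMap = e₃.equiv.toLinearMap ∘ₗ γ.baseChange B := by
    refine TensorProduct.AlgebraTensorModule.ext fun b m => ?_
    change δ (e₂.equiv (b ⊗ₜ m)) = e₃.equiv (b ⊗ₜ γ m)
    rw [e₂.equiv_tmul, e₃.equiv_tmul, map_smul]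
    congr 1
    exact hγδ m
  intro y
  constructor
  · intro hy
    obtain ⟨y, rfl⟩ := e₂.equiv.surjective y
    have h5 := LinearMap.congr_fun key' y
    change δ (e₂.equiv y) = e₃.equiv (γ.baseChange B y) at h5
    rw [h5] at hy
    obtain ⟨x, rfl⟩ := (hex y).1 (e₃.equiv.injective (hy.trans (map_zero _).symm))
    exact ⟨e₁.equiv x, LinearMap.congr_fun key x⟩
  · rintro ⟨x, rfl⟩
    obtain ⟨x, rfl⟩ := e₁.equiv.surjective x
    have h4 := LinearMap.congr_fun key x
    change β (e₁.equiv x) = e₂.equiv (α.baseChange B x) at h4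
    rw [h4]
    have h5 := LinearMap.congr_fun key' (α.baseChange B x)
    change δ (e₂.equiv (α.baseChange B x)) = e₃.equiv (γ.baseChange B (α.baseChange B x)) at h5
    rw [h5, (hex _).2 ⟨x, rfl⟩, map_zero]

/-- Flat base change of an exact sequence. -/
theorem exact (h₁ : SBC ρ g₁) (h₂ : SBC ρ g₂) (h₃ : SBC ρ g₃) (hρ : ρ.Flat) (α : M₁ →ₗ[A] M₂) (γ : M₂ →ₗ[A] M₃)
    (β : Q₁ →ₗ[B] Q₂) (δ : Q₂ →ₗ[B] Q₃) (hαβ : ∀ m, β (g₁ m) = g₂ (α m)) (hγδ : ∀ m, δ (g₂ m) = g₃ (γ m))
    (hex : Function.Exact α γ) : Function.Exact β δ := by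
  letI : Algebra A B := ρ.toAlgebra
  haveI : Module.Flat A B := hρ
  exact exact_aux h₁ h₂ h₃ α γ β δ hαβ hγδ (Module.Flat.lTensor_exact B hex)

/-- Base change of a right exact sequence. -/
theorem exact_right (h₁ : SBC ρ g₁) (h₂ : SBC ρ g₂) (h₃ : SBC ρ g₃) (α : M₁ →ₗ[A] M₂) (γ : M₂ →ₗ[A] M₃)
    (β : Q₁ →ₗ[B] Q₂) (δ : Q₂ →ₗ[B] Q₃) (hαβ : ∀ m, β (g₁ m) = g₂ (α m)) (hγδ : ∀ m, δ (g₂ m) = g₃ (γ m))
    (hex : Function.Exact α γ) (hγ : Function.Surjective γ) : Function.Exact β δ := by
  letI : Algebra A B := ρ.toAlgebra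
  exact exact_aux h₁ h₂ h₃ α γ β δ hαβ hγδ (lTensor_exact B hex hγ)

end Exact

section Levels

/-- Base change from base change on all levels. -/
theorem of_levels {A B : Type u} [CommRing A] [CommRing B] {ρ : A →+* B} {M Q : Type u} [AddCommGroup M] [Module A M]
    [AddCommGroup Q] [Module B Q] {g : M →+ Q} (hg : ∀ (a : A) (m : M), g (a • m) = ρ a • g m)
    (J : Ideal B) [IsNoetherianRing B] [IsAdicComplete J B] [Module.Finite A M] [Module.Finite B Q]
    {Bn : ℕ → Type u} [∀ n, CommRing (Bn n)] (σ : ∀ n, B →+* Bn n) (hs : ∀ n, Function.Surjective (σ n))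
    (hk : ∀ n, RingHom.ker (σ n) ≤ J ^ (n + 1))
    {Qn : ℕ → Type u} [∀ n, AddCommGroup (Qn n)] [∀ n, Module (Bn n) (Qn n)]
    (q : ∀ n, Q →+ Qn n) (hq : ∀ n (b : B) (x : Q), q n (b • x) = σ n b • q n x)
    (hq0 : ∀ x, q 0 x = 0 → x ∈ J • (⊤ : Submodule B Q))
    (hbc : ∀ n, SBC ((σ n).comp ρ) ((q n).comp g)) : SBC ρ g := by
  letI i1 : Algebra A B := ρ.toAlgebra
  letI i2 : Module A Q := Module.compHom Q ρ
  haveI i3 : IsScalarTower A B Q := tower ρ
  letI i4 : ∀ n, Algebra B (Bn n) := fun n => (σ n).toAlgebra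
  letI i5 : ∀ n, Algebra A (Bn n) := fun n => ((σ n).comp ρ).toAlgebra
  haveI i6 : ∀ n, IsScalarTower A B (Bn n) := fun n => IsScalarTower.of_algebraMap_eq fun _ => rfl
  letI i7 : ∀ n, Module B (Qn n) := fun n => Module.compHom (Qn n) (σ n)
  letI i8 : ∀ n, Module A (Qn n) := fun n => Module.compHom (Qn n) ((σ n).comp ρ)
  haveI i9 : ∀ n, IsScalarTower B (Bn n) (Qn n) := fun n => tower (σ n)
  haveI i10 : ∀ n, IsScalarTower A (Bn n) (Qn n) := fun n => tower ((σ n).comp ρ)
  haveI i11 : ∀ n, IsScalarTower A B (Qn n) := fun n => ⟨fun a b x => by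
    change σ n (ρ a * b) • x = σ n (ρ a) • (σ n b • x)
    rw [map_mul, mul_smul]⟩
  apply of_isBaseChange' hg
  refine BCAlg.isBaseChange_of_levels (lin ρ g hg) J Bn hs hk Qn (fun n =>
    { toFun := q n, map_add' := map_add (q n), map_smul' := fun b x => hq n b x }) hq0 fun n => ?_
  exact (hbc n).isBaseChange'

end Levels

end SBC

end K28
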