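import Groth.Agent.FCompl.K28.RealLevel
import Groth.Agent.FSch.K179.CompSys
import Groth.Agent.FSch.K179.PushLim
import Groth.Agent.FTors.K920.KapFlat

/-!
# The module of a system over a scheme: `F ⟶ T_* realLim`

`p k : X k ⟶ Y` a compatible family, `T = toSchemeMor 𝔛 h p hp : 𝔛 ⟶ Y`, `F : Y.Modules`, maps
`ψ k : F ⟶ (p k)_* G k`.
* `psiS k V : Γ(F, V) →+ Γ(G k, lvU k (p 0 ⁻¹ V))`;
* `exists_eta`: the morphism `F ⟶ T_* (realLim 𝔛 h G t)` of a compatible family;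
* for the completion of a locally Noetherian scheme and `F` coherent: `eta`, `sbc_eta`
  (`Γ(F, V) → Γ(F^, V^)` is a base change along `O(V) → O^(V^)`), `isIso_lft_eta` (= S13339), naturality and
  exactness (S13340).
-/

set_option autoImplicit false
set_option linter.style.haveILetI false

universe u

open CategoryTheory CategoryTheory.Limits AlgebraicGeometry TopologicalSpace Opposite
open K29.RSec K29.RStalk K29.RPull K919.AffBasic K28.RealSec K28.BasisIso K28.RealAff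
open Groth.Agent.VarietyB

noncomputable section

namespace K28.ToSch

section General

variable (𝔛 : FSch.Sys.{u}) (h : 𝔛.IsFormal) {Y : Scheme.{u}} (p : ∀ n, 𝔛.X n ⟶ Y)
  (hp : ∀ n, 𝔛.ι n ≫ p (n + 1) = p n)
  {G : ∀ k, (𝔛.X k).Modules} (t : ∀ k, G (k + 1) ⟶ (Scheme.Modules.pushforward (𝔛.ι k)).obj (G k))
  {F : Y.Modules} (ψ : ∀ k, F ⟶ (Scheme.Modules.pushforward (p k)).obj (G k))

/-- The component on the level `k`. -/
def psiS (k : ℕ) (V : Y.Opens) : Γ(F, V) →+ Γ(G k, 𝔛.lvU h k (p 0 ⁻¹ᵁ V)) :=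
  ((G k).presheaf.map (homOfLE (FSch.lvU_p 𝔛 h p hp k V).ge).op).hom.comp ((ψ k).app V).hom

theorem psiS_apply (k : ℕ) (V : Y.Opens) (s : Γ(F, V)) : psiS 𝔛 h p hp ψ k V s =
    (G k).presheaf.map (homOfLE (FSch.lvU_p 𝔛 h p hp k V).ge).op ((ψ k).app V s) := rfl

theorem psiS_smul (k : ℕ) (V : Y.Opens) (a : Γ(Y, V)) (s : Γ(F, V)) : psiS 𝔛 h p hp ψ k V (a • s) =
    (p k).appLE V (𝔛.lvU h k (p 0 ⁻¹ᵁ V)) (FSch.lvU_p 𝔛 h p hp k V).ge a • psiS 𝔛 h p hp ψ k V s := by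
  rw [psiS_apply, psiS_apply, Scheme.Modules.Hom.app_smul]
  refine (Groth.Agent.Fdesc.QCohStalk.map_smul' _ (FSch.lvU_p 𝔛 h p hp k V).ge ((p k).app V a) _).trans ?_
  rfl

theorem psiS_res (k : ℕ) {V W : Y.Opens} (hW : W ≤ V) (s : Γ(F, V)) :
    psiS 𝔛 h p hp ψ k W (F.presheaf.map (homOfLE hW).op s) =
      (G k).presheaf.map (homOfLE (lvU_mono 𝔛 h k (Scheme.Hom.preimage_mono (p 0) hW))).op
        (psiS 𝔛 h p hp ψ k V s) := by
  have h1 : (ψ k).app W (F.presheaf.map (homOfLE hW).op s) =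
      (G k).presheaf.map (homOfLE (Scheme.Hom.preimage_mono (p k) hW)).op ((ψ k).app V s) :=
    congr($((ψ k).mapPresheaf.naturality (homOfLE hW).op) s)
  rw [psiS_apply, psiS_apply, h1, Groth.Agent.Fdesc.QCohStalk.map_map, Groth.Agent.Fdesc.QCohStalk.map_map]

/-- The structure map composed with a projection. -/
theorem pk_cm (k : ℕ) (V : Y.Opens) (a : O Y.sheaf V) :
    pk 𝔛 h k (p 0 ⁻¹ᵁ V) (cm (FSch.toSchemeMor 𝔛 h p hp).sharpR V a) =
      (p k).appLE V (𝔛.lvU h k (p 0 ⁻¹ᵁ V)) (FSch.lvU_p 𝔛 h p hp k V).ge a :=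
  congrArg (fun t ↦ (t.hom.app (op V)).hom a) (FSch.schSharp_proj 𝔛 h p hp k)

/-- Compatibility with the transition maps from compatibility on the scheme. -/
theorem compat_of_trans (k : ℕ) (hψ : ψ (k + 1) ≫ K179.PushLim.trans 𝔛 p hp t k = ψ k) (V : Y.Opens)
    (s : Γ(F, V)) :
    tS 𝔛 h G t k (p 0 ⁻¹ᵁ V) (psiS 𝔛 h p hp ψ (k + 1) V s) = psiS 𝔛 h p hp ψ k V s := by
  have h2 : (ψ (k + 1) ≫ K179.PushLim.trans 𝔛 p hp t k).app V s =
      (G k).presheaf.map (eqToHom (by rw [← hp k]; rfl)).op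
        ((t k).app (p (k + 1) ⁻¹ᵁ V) ((ψ (k + 1)).app V s)) := rfl
  rw [psiS_apply, psiS_apply, ← hψ, h2, tS_apply]
  have hle : 𝔛.lvU h k (p 0 ⁻¹ᵁ V) ≤ 𝔛.ι k ⁻¹ᵁ (p (k + 1) ⁻¹ᵁ V) := by
    have h1 := (FSch.lvU_p 𝔛 h p hp k V).ge
    rw [← hp k] at h1
    exact h1
  refine (congrArg (fun z => (G k).presheaf.map (homOfLE (𝔛.lvU_le h k (p 0 ⁻¹ᵁ V))).op z)
    (K179.PushLim.app_res (t k) (homOfLE (FSch.lvU_p 𝔛 h p hp (k + 1) V).ge) _)).trans ?_
  exact (K179.PushLim.res_res _ _ _ (homOfLE hle).op _).trans (K179.PushLim.res_res _ _ _ (homOfLE hle).op _).symm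

/-- The morphism to the direct image of the limit given by a compatible family. -/
theorem exists_eta (hψ : ∀ k V s, tS 𝔛 h G t k (p 0 ⁻¹ᵁ V) (psiS 𝔛 h p hp ψ (k + 1) V s) =
    psiS 𝔛 h p hp ψ k V s) :
    ∃ η : F ⟶ (FSch.toSchemeMor 𝔛 h p hp).push.obj (FSch.realLim 𝔛 h G t),
      ∀ k V s, ps 𝔛 h G t k (p 0 ⁻¹ᵁ V) (gs (φ := (FSch.toSchemeMor 𝔛 h p hp).sharpR) η V s) =
        psiS 𝔛 h p hp ψ k V s := by
  choose x hx using fun (V : Y.Opens) (s : Γ(F, V)) => sec_lift 𝔛 h G t (fun k => psiS 𝔛 h p hp ψ k V s)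
    (fun k => hψ k V s)
  let φ := (FSch.toSchemeMor 𝔛 h p hp).sharpR
  let P : Mod (𝔛.Osh h) := FSch.realLim 𝔛 h G t
  refine ⟨homMk (R := Y.sheaf) (M := F) (N := (push φ).obj P) (fun V => (toPush φ (N := P) (V := V)).comp (AddMonoidHom.mk' (x V) fun a b => ?_))
    (fun V r m => ?_) (fun V W hW m => ?_), fun k V s => hx V s k⟩
  · apply sec_ext 𝔛 h G t
    intro k
    rw [map_add, hx, hx, hx]
    exact map_add (psiS 𝔛 h p hp ψ k V) a b
  · have h1 : x V (r • m) = cm φ V r • x V m := by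
      apply sec_ext 𝔛 h G t
      intro k
      rw [hx]
      refine (psiS_smul 𝔛 h p hp ψ k V r m).trans ?_
      rw [← hx V m k, ← pk_cm]
      exact (ps_smul 𝔛 h G t k _ _ _).symm
    exact congrArg (toPush φ (N := P) (V := V)) h1
  · have h1 : x W (F.presheaf.map (homOfLE hW).op m) = res P (pre_mono (p 0).base hW) (x V m) := by
      apply sec_ext 𝔛 h G t
      intro k
      rw [hx]
      refine (psiS_res 𝔛 h p hp ψ k hW m).trans ?_
      rw [← hx V m k]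
      exact (ps_res 𝔛 h G t k (pre_mono (p 0).base hW) (x V m)).symm
    exact congrArg (toPush φ (N := P) (V := W)) h1

/-- The projections of the morphism. -/
theorem eta_realProj (η : F ⟶ (FSch.toSchemeMor 𝔛 h p hp).push.obj (FSch.realLim 𝔛 h G t))
    (hη : ∀ k V s, ps 𝔛 h G t k (p 0 ⁻¹ᵁ V) (gs (φ := (FSch.toSchemeMor 𝔛 h p hp).sharpR) η V s) =
        psiS 𝔛 h p hp ψ k V s) (k : ℕ) :
    η ≫ (FSch.toSchemeMor 𝔛 h p hp).push.map (FSch.realProj 𝔛 h G t k) =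
      ψ k ≫ (FSch.schPushCompare 𝔛 h p hp k).app (G k) := by
  apply K29.RSec.hom_ext
  intro V s
  exact hη k V s

/-- Preimages of a basis are cofinal for an embedding. -/
theorem cofinal_of_embedding {T T1 : TopCat.{u}} (f : T1 ⟶ T) (hf : Topology.IsInducing f)
    {𝓑 : Set (Opens T)} (hB : Basis 𝓑) : Cofinal f 𝓑 := by
  intro y V W hV hW
  obtain ⟨W', hW', e⟩ := hf.isOpen_iff.1 W.2
  obtain ⟨U, hU, hyU, hUV⟩ := hB (f y) (V ⊓ ⟨W', hW'⟩) ⟨hV, by
    have : y ∈ f ⁻¹' W' := by rw [e]; exact hW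
    exact this⟩
  refine ⟨U, hU, hyU, hUV.trans inf_le_left, fun z hz => ?_⟩
  have h1 : z ∈ f ⁻¹' W' := (hUV hz).2
  rw [e] at h1
  exact h1

end General

section Completion

variable {X : Scheme.{u}} {𝓘 : X.IdealSheafData} (h : (FSch.completionAlong X 𝓘).IsFormal)

theorem psiS_unit (F : X.Modules) (k : ℕ) (V : X.Opens) (s : Γ(F, V)) :
    psiS (FSch.completionAlong X 𝓘) h (FSch.completionToX X 𝓘) (FSch.completionToX_comm X 𝓘)
      (G := (FSch.complMod 𝓘 F).F)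
      (fun k => (Scheme.Modules.pullbackPushforwardAdjunction (FSch.completionToX X 𝓘 k)).unit.app F) k V s =
    PullSec.sec (FSch.completionToX X 𝓘 k) F
      (FSch.lvU_p (FSch.completionAlong X 𝓘) h (FSch.completionToX X 𝓘) (FSch.completionToX_comm X 𝓘) k V).ge s :=
  rfl

theorem compat_unit (F : X.Modules) (k : ℕ) (V : X.Opens) (s : Γ(F, V)) :
    tS (FSch.completionAlong X 𝓘) h (FSch.complMod 𝓘 F).F (FSch.complMod 𝓘 F).toPush k
      (FSch.completionToX X 𝓘 0 ⁻¹ᵁ V)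
      (psiS (FSch.completionAlong X 𝓘) h (FSch.completionToX X 𝓘) (FSch.completionToX_comm X 𝓘)
      (G := (FSch.complMod 𝓘 F).F)
      (fun k => (Scheme.Modules.pullbackPushforwardAdjunction (FSch.completionToX X 𝓘 k)).unit.app F) (k + 1) V s) =
    psiS (FSch.completionAlong X 𝓘) h (FSch.completionToX X 𝓘) (FSch.completionToX_comm X 𝓘)
      (G := (FSch.complMod 𝓘 F).F)
      (fun k => (Scheme.Modules.pullbackPushforwardAdjunction (FSch.completionToX X 𝓘 k)).unit.app F) k V s := by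
  have e : (fun k => (Scheme.Modules.pullbackPushforwardAdjunction (FSch.completionToX X 𝓘 k)).unit.app F) (k + 1) ≫
      K179.PushLim.trans (FSch.completionAlong X 𝓘) (FSch.completionToX X 𝓘) (FSch.completionToX_comm X 𝓘)
        (FSch.complMod 𝓘 F).toPush k =
      (fun k => (Scheme.Modules.pullbackPushforwardAdjunction (FSch.completionToX X 𝓘 k)).unit.app F) k := by
    rw [K179.PushLim.trans_toPush (𝓘 := 𝓘) (FSch.complMod 𝓘 F) k]
    exact K179.CompSys.un_ptr 𝓘 F k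
  exact compat_of_trans (FSch.completionAlong X 𝓘) h (FSch.completionToX X 𝓘) (FSch.completionToX_comm X 𝓘)
    (FSch.complMod 𝓘 F).toPush
    (fun k => (Scheme.Modules.pullbackPushforwardAdjunction (FSch.completionToX X 𝓘 k)).unit.app F) k e V s

theorem exists_eta_compl (F : X.Modules) :
    ∃ η : F ⟶ (K920.KapSch.kap X 𝓘 h).push.obj ((FSch.complMod 𝓘 F).realMod h),
      ∀ k V s, ps (FSch.completionAlong X 𝓘) h (FSch.complMod 𝓘 F).F (FSch.complMod 𝓘 F).toPush k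
        (FSch.completionToX X 𝓘 0 ⁻¹ᵁ V) (gs (φ := K920.KapSch.phi X 𝓘 h) η V s) =
        psiS (FSch.completionAlong X 𝓘) h (FSch.completionToX X 𝓘) (FSch.completionToX_comm X 𝓘)
      (G := (FSch.complMod 𝓘 F).F)
      (fun k => (Scheme.Modules.pullbackPushforwardAdjunction (FSch.completionToX X 𝓘 k)).unit.app F) k V s :=
  exists_eta (FSch.completionAlong X 𝓘) h (FSch.completionToX X 𝓘) (FSch.completionToX_comm X 𝓘)
    (FSch.complMod 𝓘 F).toPush
    (fun k => (Scheme.Modules.pullbackPushforwardAdjunction (FSch.completionToX X 𝓘 k)).unit.app F) (compat_unit h F)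

variable (𝓘) in
/-- The canonical morphism `F ⟶ T_* F^`. -/
def eta (F : X.Modules) : F ⟶ (K920.KapSch.kap X 𝓘 h).push.obj ((FSch.complMod 𝓘 F).realMod h) :=
  (exists_eta_compl h F).choose

theorem ps_eta (F : X.Modules) (k : ℕ) (V : X.Opens) (s : Γ(F, V)) :
    ps (FSch.completionAlong X 𝓘) h (FSch.complMod 𝓘 F).F (FSch.complMod 𝓘 F).toPush k
      (FSch.completionToX X 𝓘 0 ⁻¹ᵁ V) (gs (φ := K920.KapSch.phi X 𝓘 h) (eta 𝓘 h F) V s) =
    PullSec.sec (FSch.completionToX X 𝓘 k) F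
      (FSch.lvU_p (FSch.completionAlong X 𝓘) h (FSch.completionToX X 𝓘) (FSch.completionToX_comm X 𝓘) k V).ge s :=
  (exists_eta_compl h F).choose_spec k V s

end Completion

end K28.ToSch
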